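import Groth.Agent.DedHullLib.Rel
import Groth.Agent.S16033

/-! Homomorphisms from flat groups with affine generic kernel are affine. -/

set_option autoImplicit false
set_option linter.style.haveILetI false
set_option linter.unusedSectionVars false
set_option backward.isDefEq.respectTransparency false
set_option maxHeartbeats 1000000

universe u

open CategoryTheory CategoryTheory.Limits MonoidalCategory CartesianMonoidalCategory AlgebraicGeometry TopologicalSpace
open scoped MonObj
open Groth.Agent.HomogDense Groth.Agent.GrpField RelHullLib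

noncomputable section

attribute [-instance] CategoryTheory.Hom.commGroup

namespace DedHullLib

theorem isIso_of_isΓ_affine {X Y : Scheme.{u}} (f : X ⟶ Y) [IsΓ f] [IsAffineHom f] : IsIso f := by
  apply (MorphismProperty.isomorphisms.iff f).1
  rw [IsZariskiLocalAtTarget.iff_of_iSup_eq_top (P := MorphismProperty.isomorphisms Scheme.{u}) _
    (iSup_affineOpens_eq_top Y)]
  intro U
  haveI : IsAffine U.1.toScheme := U.2
  haveI : IsAffine (f ⁻¹ᵁ U.1).toScheme := U.2.preimage f
  haveI : IsIso (f ∣_ U.1).appTop := IsΓ.iso _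
  haveI : IsIso (Spec.map (f ∣_ U.1).appTop) := inferInstance
  haveI : IsIso ((f ∣_ U.1) ≫ U.1.toScheme.toSpecΓ) := by rw [Scheme.toSpecΓ_naturality]; infer_instance
  exact IsIso.of_isIso_comp_right (f ∣_ U.1) U.1.toScheme.toSpecΓ

/-- Over a field, a homomorphism with affine kernel is affine. -/
theorem affine_of_kernel_field {k : Type u} [Field k] {G G₀ : Over (Spec (CommRingCat.of k))} [GrpObj G] [GrpObj G₀]
    [LocallyOfFiniteType G.hom] [QuasiCompact G.hom] [LocallyOfFiniteType G₀.hom] (u : G ⟶ G₀) [IsMonHom u]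
    (h : IsAffine (pullback u.left η[G₀].left)) : IsAffineHom u.left := by
  haveI : IsSeparated G₀.hom := isSeparated_grp (G := G₀)
  haveI : QuasiCompact u.left := by
    haveI : QuasiCompact (u.left ≫ G₀.hom) := by rw [Over.w]; infer_instance
    exact QuasiCompact.of_comp _ G₀.hom
  obtain ⟨C, _, p, i, hp, hi, hpi, hpf, hps, _, _⟩ := Groth.Agent.GrpHom.exists_fppf_image u (flat_field _)
  haveI := hp; haveI := hi; haveI := hpf; haveI := hps
  haveI : Mono i := Over.mono_of_mono_left i
  haveI : LocallyOfFiniteType C.hom := by rw [← Over.w i]; infer_instance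
  haveI : IsSeparated C.hom := isSeparated_grp (G := C)
  haveI : QuasiCompact p.left := by
    haveI : QuasiCompact (p.left ≫ C.hom) := by rw [Over.w]; infer_instance
    exact QuasiCompact.of_comp _ C.hom
  obtain ⟨N, _, jN, _, _, hN, -⟩ := AntiAffLib.exists_kernel p
  have hN' : AlgGrp.IsKernel jN u := by
    refine ⟨⟨?_⟩, ⟨PullbackCone.IsLimit.mk _ (fun s => hN.lift s.fst (toUnit _) ?_) (fun s => ?_) (fun s => ?_)
      (fun s m h1 h2 => ?_)⟩⟩
    · rw [← hpi, reassoc_of% hN.w, IsMonHom.one_hom]
    · rw [← cancel_mono i, Category.assoc, hpi, s.condition, Category.assoc, IsMonHom.one_hom]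
      exact congrArg (· ≫ η[G₀]) (toUnit_unique _ _)
    · exact hN.lift_fst _ _ _
    · exact toUnit_unique _ _
    · exact hN.hom_ext (by rw [hN.lift_fst]; exact h1) (toUnit_unique _ _)
  haveI := h
  haveI : IsAffine N.left := by
    let sq : IsPullback jN.left (toUnit N).left u.left η[G₀].left := hN'.map (Over.forget _)
    exact IsAffine.of_isIso sq.isoPullback.hom
  haveI := Groth.Agent.S16033.descends_affine p jN hN
  rw [← hpi, Over.comp_left]
  infer_instance

/-- A separated homomorphism from a flat group over a Dedekind domain is affine if it is so over a dominant point. -/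
theorem isAffineHom_of_generic (R : Type u) [CommRing R] [IsDedekindDomain R] {K : Type u} [Field K]
    (j : Spec (CommRingCat.of K) ⟶ Spec (CommRingCat.of R)) [Flat j] [IsSchemeTheoreticallyDominant j]
    {G G₀ : Over (Spec (CommRingCat.of R))} [GrpObj G] [GrpObj G₀] [Flat G.hom] [LocallyOfFiniteType G.hom]
    [QuasiCompact G.hom] [LocallyOfFiniteType G₀.hom] (u : G ⟶ G₀) [IsMonHom u]
    [IsSeparated u.left] [QuasiCompact u.left] (hK : IsAffineHom ((Over.pullback j).map u).left) :
    IsAffineHom u.left := by
  obtain ⟨Hs, ql, ρl, hq, hρq, hρ⟩ := RelHullLib.exists_affHull u.left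
  haveI := hq; haveI := hρ
  let H : Over (Spec (CommRingCat.of R)) := Over.mk (ql ≫ G₀.hom)
  let q : H ⟶ G₀ := Over.homMk ql rfl
  let ρ : G ⟶ H := Over.homMk ρl (by show ρl ≫ ql ≫ G₀.hom = G.hom; rw [reassoc_of% hρq, Over.w])
  have hu : ρ ≫ q = u := Over.OverMorphism.ext hρq
  haveI : IsΓ ρ.left := hρ
  haveI : IsAffineHom q.left := hq
  haveI : IsSeparated (ρ.left ≫ q.left) := by rw [← Over.comp_left, hu]; infer_instance
  haveI : QuasiCompact (ρ.left ≫ q.left) := by rw [← Over.comp_left, hu]; infer_instance
  haveI : IsSeparated ρ.left := IsSeparated.of_comp ρ.left q.left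
  haveI : QuasiCompact ρ.left := QuasiCompact.of_comp ρ.left q.left
  haveI : Flat H.hom := by
    haveI : Flat (ρ.left ≫ H.hom) := by rw [Over.w]; infer_instance
    exact flat_hull_dedekind R ρ.left H.hom
  haveI : IsMonHom (ρ ≫ q) := by rw [hu]; infer_instance
  obtain ⟨_, hρm, hqm⟩ := RelHullLib.exists_grpObj ρ q
  haveI := hρm; haveI := hqm
  obtain ⟨hfl, hsur⟩ := ff_rel_dedekind R ρ q
  haveI := hfl; haveI := hsur
  haveI : QuasiCompact j := quasiCompact_of_compactSpace _
  let ρK := ((Over.pullback j).map ρ).left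
  haveI : QuasiCompact ρK := MorphismProperty.of_isPullback (isPullback_bcMap j ρ).flip ‹QuasiCompact ρ.left›
  haveI : Flat (pullback.fst H.hom j) := MorphismProperty.pullback_fst _ _ ‹Flat j›
  haveI : IsΓ ρK := isΓ_of_isPullback (isPullback_bcMap j ρ).flip
  haveI : IsAffineHom ρK := by
    haveI : IsAffineHom ((Over.pullback j).map q).left :=
      MorphismProperty.of_isPullback (isPullback_bcMap j q).flip ‹IsAffineHom q.left›
    haveI : IsAffineHom (ρK ≫ ((Over.pullback j).map q).left) := by
      rw [← Over.comp_left, ← Functor.map_comp, hu]; exact hK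
    exact IsAffineHom.of_comp ρK ((Over.pullback j).map q).left
  haveI : IsIso ρK := isIso_of_isΓ_affine ρK
  haveI : IsIso ρ.left := by
    refine isIso_of_mono_generic H.hom ρ.left j fun {T} a b t hab hat => ?_
    have hat' : a ≫ G.hom = t ≫ j := by rwa [Over.w] at hat
    have hbt : b ≫ G.hom = t ≫ j := by rw [← hat', ← Over.w ρ, reassoc_of% hab]
    let a' := pullback.lift a t hat'
    let b' := pullback.lift b t hbt
    suffices h : a' = b' by simpa [a', b'] using congrArg (· ≫ pullback.fst G.hom j) h
    rw [← cancel_mono ρK]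
    have e1 : ρK ≫ pullback.fst H.hom j = pullback.fst G.hom j ≫ ρ.left := ActBC.pullback_map_left_fst j ρ
    have e2 : ρK ≫ pullback.snd H.hom j = pullback.snd G.hom j := Over.w ((Over.pullback j).map ρ)
    refine pullback.hom_ext ?_ ?_
    · simp only [Category.assoc, e1]; rw [pullback.lift_fst_assoc, pullback.lift_fst_assoc, hab]
    · simp only [Category.assoc, e2]; rw [pullback.lift_snd, pullback.lift_snd]
  rw [← hu, Over.comp_left]
  infer_instance

theorem isAffine_bc_kernel {S S' : Scheme.{u}} {G G₀ : Over S} [GrpObj G₀] (u : G ⟶ G₀) (j : S' ⟶ S)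
    (h : IsAffine (pullback (pullback.fst u.left η[G₀].left ≫ G.hom) j)) :
    IsAffine (pullback ((Over.pullback j).map u).left η[(Over.pullback j).obj G₀].left) := by
  haveI := h
  let e := η[(Over.pullback j).obj G₀].left
  have he1 : e ≫ pullback.fst G₀.hom j = j ≫ η[G₀].left := by
    simp only [e]; rw [CategoryTheory.Functor.obj.η_def]; simp
  have sq1 := (IsPullback.of_hasPullback ((Over.pullback j).map u).left e).flip
  have big : IsPullback (pullback.snd ((Over.pullback j).map u).left e)
      (pullback.fst ((Over.pullback j).map u).left e ≫ pullback.fst G.hom j) (j ≫ η[G₀].left) u.left := by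
    rw [← he1]
    exact sq1.paste_vert (isPullback_bcMap j u).flip.flip
  have sq2 := (IsPullback.of_hasPullback (pullback.fst u.left η[G₀].left ≫ G.hom) j)
  have hs : pullback.snd u.left η[G₀].left = pullback.fst u.left η[G₀].left ≫ G.hom := by
    calc pullback.snd u.left η[G₀].left = pullback.snd u.left η[G₀].left ≫ η[G₀].left ≫ G₀.hom := by
          rw [Over.w η[G₀]]; exact (Category.comp_id _).symm
      _ = _ := by rw [← reassoc_of% pullback.condition (f := u.left) (g := η[G₀].left), Over.w u]
  rw [← hs] at sq2 h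
  have big2 := sq2.flip.paste_vert (IsPullback.of_hasPullback u.left η[G₀].left).flip
  have hh := big2.isoIsPullback _ _ big
  haveI := h
  exact IsAffine.of_isIso hh.inv

end DedHullLib
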