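import Groth.Agent.DedHullLib.Local

/-! Flatness over a discrete valuation ring from flatness on the two fibres, without finiteness. -/

set_option autoImplicit false
set_option linter.style.haveILetI false
set_option linter.unusedSectionVars false
set_option backward.isDefEq.respectTransparency false
set_option maxHeartbeats 1000000

universe u

open CategoryTheory CategoryTheory.Limits AlgebraicGeometry TopologicalSpace
open SubSpecLib

noncomputable section

namespace DedHullLib

variable {D : Type u} [CommRing D] [IsDomain D] [IsDiscreteValuationRing D]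

theorem flatAt_cancel_open {X Y Z : Scheme.{u}} (f : X ⟶ Y) (i : Y ⟶ Z) [IsOpenImmersion i] (x : X)
    (h : FlatLib.FlatAt (f ≫ i) x) : FlatLib.FlatAt f x := by
  have h' : ((f ≫ i).stalkMap x).hom.Flat := h
  rw [Scheme.Hom.stalkMap_comp] at h'
  exact (RingHom.Flat.respectsIso.cancel_left_isIso (i.stalkMap (f x)) _).1 h'

theorem flat_of_fibres_affine {A M : CommRingCat.{u}} (σ : CommRingCat.of D ⟶ A) (ψ : A ⟶ M)
    [Flat (Spec.map σ)] [Flat (Spec.map ψ ≫ Spec.map σ)]
    (hgen : ∀ x, (Spec.map ψ ≫ Spec.map σ) x = (⟨⊥, Ideal.isPrime_bot⟩ : PrimeSpectrum D) → FlatLib.FlatAt (Spec.map ψ) x)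
    (hsp : Flat (pullback.snd (Spec.map ψ)
      (pullback.fst (Spec.map σ) (Spec.map (CommRingCat.ofHom (IsLocalRing.residue D)))))) : Flat (Spec.map ψ) := by
  obtain ⟨π, hπ⟩ := IsDiscreteValuationRing.exists_irreducible D
  let t : A := σ π
  letI : Algebra D A := σ.hom.toAlgebra
  letI : Algebra A M := ψ.hom.toAlgebra
  letI : Algebra D M := (σ ≫ ψ).hom.toAlgebra
  haveI : IsScalarTower D A M := IsScalarTower.of_algebraMap_eq fun _ => rfl
  haveI : Module.Flat D A := (Flat.SpecMap_iff (f := σ)).1 ‹_›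
  haveI : Module.Flat D M := (Flat.SpecMap_iff (f := σ ≫ ψ)).1 (by rw [Spec.map_comp]; infer_instance)
  have hπ0 : IsSMulRegular D π := IsSMulRegular.of_ne_zero hπ.ne_zero
  have hA : IsSMulRegular A t := fun a b h =>
    (hπ0.of_flat (S := A)) (by simpa [Algebra.smul_def, t, RingHom.algebraMap_toAlgebra] using h)
  have hM : IsSMulRegular M t := fun a b h => by
    refine (hπ0.of_flat (S := M)) ?_
    simpa [Algebra.smul_def, t, RingHom.algebraMap_toAlgebra] using h
  let M' := Localization.Away (algebraMap A M t)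
  haveI : Module.Flat A M' := by
    suffices h : Flat (Spec.map (CommRingCat.ofHom (algebraMap M M')) ≫ Spec.map ψ) by
      rw [← Spec.map_comp, Flat.SpecMap_iff] at h
      rw [← RingHom.flat_algebraMap_iff, IsScalarTower.algebraMap_eq A M M']
      exact h
    rw [Flat.iff_flat_stalkMap]
    intro z
    let e := Spec.map (CommRingCat.ofHom (algebraMap M M'))
    haveI : IsOpenImmersion e := IsOpenImmersion.of_isLocalization (algebraMap A M t)
    show FlatLib.FlatAt _ z
    refine FlatLib.flatAt_comp (FlatLib.flatAt_of_flat e z) (hgen _ ?_)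
    show (e ≫ Spec.map ψ ≫ Spec.map σ) z = _
    simp only [e, ← Spec.map_comp]
    rcases eq_bot_or_closed ((Spec.map ((σ ≫ ψ) ≫ CommRingCat.ofHom (algebraMap M M'))) z) with h | h
    · exact h
    · exfalso
      have h2 : π ∈ ((Spec.map ((σ ≫ ψ) ≫ CommRingCat.ofHom (algebraMap M M'))) z : PrimeSpectrum D).asIdeal := by
        rw [h]
        exact hπ.not_isUnit
      exact z.isPrime.ne_top (Ideal.eq_top_of_isUnit_mem _ h2 (IsLocalization.Away.algebraMap_isUnit (algebraMap A M t)))
  haveI : IsLocalizedModule (Submonoid.powers t) (IsScalarTower.toAlgHom A M M').toLinearMap := by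
    rw [isLocalizedModule_iff_isLocalization, Algebra.algebraMapSubmonoid_powers]
    infer_instance
  have hQ : Module.Flat (A ⧸ Ideal.span {t}) (TensorProduct A (A ⧸ Ideal.span {t}) M) := by
    let φ := IsLocalRing.residue D
    let p := Spec.map (CommRingCat.ofHom φ)
    let q : A ⟶ CommRingCat.of (A ⧸ Ideal.span {t}) := CommRingCat.ofHom (Ideal.Quotient.mk _)
    have hker : RingHom.ker φ ≤ RingHom.ker (q.hom.comp σ.hom) := by
      rw [IsLocalRing.ker_residue, hπ.maximalIdeal_eq, Ideal.span_singleton_le_iff_mem, RingHom.mem_ker]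
      exact Ideal.Quotient.eq_zero_iff_mem.2 (Ideal.mem_span_singleton_self t)
    obtain ⟨τ, hτ⟩ : ∃ τ : IsLocalRing.ResidueField D →+* A ⧸ Ideal.span {t}, τ.comp φ = q.hom.comp σ.hom :=
      ⟨φ.liftOfSurjective IsLocalRing.residue_surjective ⟨_, hker⟩,
        RingHom.liftOfRightInverse_comp φ _ _ ⟨_, hker⟩⟩
    let l : Spec (CommRingCat.of (A ⧸ Ideal.span {t})) ⟶ pullback (Spec.map σ) p :=
      pullback.lift (Spec.map q) (Spec.map (CommRingCat.ofHom τ)) (by
        rw [← Spec.map_comp, ← Spec.map_comp]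
        exact congrArg Spec.map (CommRingCat.hom_ext hτ.symm))
    have h2 : Flat (pullback.snd (Spec.map ψ) (Spec.map q)) := by
      have := flat_snd_of_factor _ _ l hsp
      rwa [show l ≫ pullback.fst (Spec.map σ) p = Spec.map q from pullback.lift_fst _ _ _] at this
    have h4 : Flat (pullback.fst (Spec.map q) (Spec.map ψ)) := by
      rw [← pullbackSymmetry_hom_comp_snd]
      exact MorphismProperty.comp_mem _ _ _ (inferInstanceAs (Flat (pullbackSymmetry _ _).hom)) h2
    have h5 : Flat ((pullbackSpecIso A (A ⧸ Ideal.span {t}) M).inv ≫ pullback.fst _ _) :=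
      (MorphismProperty.cancel_left_of_respectsIso @Flat _ _).2 h4
    rw [pullbackSpecIso_inv_fst, Flat.SpecMap_iff] at h5
    rw [← RingHom.flat_algebraMap_iff]
    exact h5
  haveI : Module.Flat A M := flat_of_mod_of_away t hA hM hQ (IsScalarTower.toAlgHom A M M').toLinearMap
  rw [Flat.SpecMap_iff]
  exact RingHom.flat_algebraMap_iff.2 ‹Module.Flat A M›

/-- A morphism of flat schemes over a DVR which is flat at the generic fibre and on the special fibre is flat. -/
theorem flat_of_fibres {X Y : Scheme.{u}} (f : X ⟶ Y) (gY : Y ⟶ Spec (CommRingCat.of D)) [Flat gY] [Flat (f ≫ gY)]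
    (hgen : ∀ x, (f ≫ gY) x = (⟨⊥, Ideal.isPrime_bot⟩ : PrimeSpectrum D) → FlatLib.FlatAt f x)
    (hsp : Flat (pullback.snd f (pullback.fst gY (Spec.map (CommRingCat.ofHom (IsLocalRing.residue D)))))) :
    Flat f := by
  rw [Flat.iff_flat_stalkMap]
  intro x
  obtain ⟨W, hW, hxW, -⟩ := exists_isAffineOpen_mem_and_subset (X := Y) (x := f x) (U := ⊤) trivial
  obtain ⟨U, hU, hxU, hUW⟩ := exists_isAffineOpen_mem_and_subset (X := X) (x := x) (U := f ⁻¹ᵁ W) hxW
  let ψ := f.appLE W U hUW
  obtain ⟨σ, hσ⟩ : ∃ σ : CommRingCat.of D ⟶ Γ(Y, W), Spec.map σ = hW.fromSpec ≫ gY := Spec.map_surjective _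
  have hψ : Spec.map ψ ≫ hW.fromSpec = hU.fromSpec ≫ f := hW.SpecMap_appLE_fromSpec f hU hUW
  haveI : Flat (Spec.map σ) := by rw [hσ]; infer_instance
  haveI : Flat (Spec.map ψ ≫ Spec.map σ) := by rw [hσ, reassoc_of% hψ]; infer_instance
  have hF : Flat (Spec.map ψ) := by
    refine flat_of_fibres_affine σ ψ (fun z hz => ?_) ?_
    · have h1 : FlatLib.FlatAt (hU.fromSpec ≫ f) z := by
        refine FlatLib.flatAt_comp (FlatLib.flatAt_of_flat _ _) (hgen _ ?_)
        rw [← Scheme.Hom.comp_apply, ← reassoc_of% hψ, ← hσ]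
        exact hz
      rw [← FlatLib.flatAt_congr hψ] at h1
      exact flatAt_cancel_open _ hW.fromSpec z h1
    · let p := Spec.map (CommRingCat.ofHom (IsLocalRing.residue D))
      let m : pullback (Spec.map σ) p ⟶ pullback gY p :=
        pullback.map _ _ _ _ hW.fromSpec (𝟙 _) (𝟙 _) (by simp [hσ]) (by simp)
      have h1 := flat_snd_comp hU.fromSpec f (pullback.fst gY p) hsp
      rw [← hψ] at h1
      have h2 := flat_snd_of_factor _ _ m h1
      rw [show m ≫ pullback.fst gY p = pullback.fst (Spec.map σ) p ≫ hW.fromSpec from pullback.lift_fst _ _ _] at h2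
      let e := pullback.map (Spec.map ψ) (pullback.fst (Spec.map σ) p) (Spec.map ψ ≫ hW.fromSpec)
        (pullback.fst (Spec.map σ) p ≫ hW.fromSpec) (𝟙 _) (𝟙 _) hW.fromSpec (by simp) (by simp)
      haveI : IsIso e := ⟨pullback.lift (pullback.fst _ _) (pullback.snd _ _)
          ((cancel_mono hW.fromSpec).1 (by simp [pullback.condition])),
        pullback.hom_ext (by simp [e]) (by simp [e]), pullback.hom_ext (by simp [e]) (by simp [e])⟩
      rw [show pullback.snd (Spec.map ψ) (pullback.fst (Spec.map σ) p) = e ≫ pullback.snd _ _ from by simp [e]]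
      infer_instance
  obtain ⟨z, rfl⟩ : x ∈ Set.range hU.fromSpec := by rw [hU.range_fromSpec]; exact hxU
  refine FlatLib.flatAt_of_comp (FlatLib.flatAt_of_flat hU.fromSpec z) ?_
  rw [← FlatLib.flatAt_congr hψ]
  exact FlatLib.flatAt_of_flat _ _

end DedHullLib
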