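import Groth.Agent.WeilResLib.FlatDominant

/-! Flatness of homomorphisms from behaviour over maximal points. -/

set_option autoImplicit false
set_option backward.isDefEq.respectTransparency false
set_option linter.style.haveILetI false

universe u

open CategoryTheory CategoryTheory.Limits MonoidalCategory CartesianMonoidalCategory AlgebraicGeometry
open scoped MonObj
open Groth.Agent Groth.Agent.HomogDense Groth.Agent.GrpField Groth.Agent.WeilRes

noncomputable section

namespace DedHullLib

variable {k : Type u} [Field k] {G H : Over (Spec (CommRingCat.of k))}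

/-- Flatness of a surjective homomorphism can be checked over maximal points of the target. -/
theorem flat_of_flat_over_max [GrpObj G] [GrpObj H] (f : G ⟶ H) [IsMonHom f] [Surjective f.left]
    (hf : ∀ c : G.left, IsMaxPt (f.left c) → (f.left.stalkMap c).hom.Flat) : Flat f.left := by
  refine (Flat.iff_flat_stalkMap _).mpr fun x => ?_
  obtain ⟨z, hz, ha, hb⟩ := exists_mul_max_over f x
  let W : G.left → Over (Spec (CommRingCat.of k)) := fun c => Over.mk (G.left.fromSpecStalk c ≫ G.hom)
  let V : G.left → Over (Spec (CommRingCat.of k)) := fun c => Over.mk (H.left.fromSpecStalk (f.left c) ≫ H.hom)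
  let iW : ∀ c, W c ⟶ G := fun c => Over.homMk (G.left.fromSpecStalk c) rfl
  let iV : ∀ c, V c ⟶ H := fun c => Over.homMk (H.left.fromSpecStalk (f.left c)) rfl
  let fW : ∀ c, W c ⟶ V c := fun c => Over.homMk (Spec.map (f.left.stalkMap c)) (by
    show Spec.map _ ≫ H.left.fromSpecStalk _ ≫ H.hom = G.left.fromSpecStalk c ≫ G.hom
    rw [Scheme.SpecMap_stalkMap_fromSpecStalk_assoc, Over.w])
  have hcomm : ∀ c, iW c ≫ f = fW c ≫ iV c := fun c => by
    ext1
    exact (Scheme.SpecMap_stalkMap_fromSpecStalk f.left (x := c)).symm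
  haveI hiW : ∀ c, Flat (iW c).left := fun c => RedFlatLib.flat_fromSpecStalk _ c
  haveI hiV : ∀ c, Flat (iV c).left := fun c => RedFlatLib.flat_fromSpecStalk _ _
  have hfW : ∀ c, IsMaxPt (f.left c) → Flat (fW c).left := fun c hc => by
    show Flat (Spec.map (f.left.stalkMap c))
    rw [Flat.SpecMap_iff]
    exact hf c hc
  let a := (fst G G).left z
  let b := (snd G G).left z
  have flatT : ∀ {A A' B B' : Over (Spec (CommRingCat.of k))} (g : A ⟶ A') (g' : B ⟶ B'),
      Flat g.left → Flat g'.left → Flat (g ⊗ₘ g').left := fun g g' hg hg' => by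
    rw [Over.tensorHom_left]
    exact MorphismProperty.pullbackMap (P := @Flat) hg hg' (Over.w g).symm (Over.w g').symm
  haveI h1 := flatT _ _ (hiW a) (hiW b)
  haveI h2 : Flat ((iW a ⊗ₘ iW b) ≫ μ[G] ≫ f).left := by
    rw [IsMonHom.mul_hom, ← Category.assoc, tensorHom_comp_tensorHom, hcomm, hcomm, ← tensorHom_comp_tensorHom,
      Over.comp_left, Over.comp_left]
    haveI := flatT _ _ (hfW a ha) (hfW b hb)
    haveI := flatT _ _ (hiV a) (hiV b)
    haveI : Flat μ[H].left := flat_mul H
    infer_instance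
  obtain ⟨w, hw⟩ : z ∈ Set.range (iW a ⊗ₘ iW b).left.base := by
    rw [Over.tensorHom_left]
    refine (Set.ext_iff.mp (Scheme.Pullback.range_map _ _ _ _ _ _ _ _ _) z).mpr ⟨?_, ?_⟩
    · exact ⟨IsLocalRing.closedPoint _, Scheme.fromSpecStalk_closedPoint⟩
    · exact ⟨IsLocalRing.closedPoint _, Scheme.fromSpecStalk_closedPoint⟩
  haveI : Flat μ[G].left := flat_mul G
  have h3 : FlatLib.FlatAt ((iW a ⊗ₘ iW b).left ≫ μ[G].left) w := FlatLib.flatAt_of_flat _ w
  have h4 : FlatLib.FlatAt (((iW a ⊗ₘ iW b).left ≫ μ[G].left) ≫ f.left) w := by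
    have h := FlatLib.flatAt_of_flat ((iW a ⊗ₘ iW b) ≫ μ[G] ≫ f).left w
    rw [FlatLib.flatAt_congr (show ((iW a ⊗ₘ iW b) ≫ μ[G] ≫ f).left =
      ((iW a ⊗ₘ iW b).left ≫ μ[G].left) ≫ f.left by simp only [Over.comp_left, Category.assoc])] at h
    exact h
  have h5 := FlatLib.flatAt_of_comp h3 h4
  rwa [show ((iW a ⊗ₘ iW b).left ≫ μ[G].left) w = x by rw [Scheme.Hom.comp_apply, hw, hz]] at h5

end DedHullLib
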