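import Groth.Agent.DedHullLib.Pure
import Groth.Agent.DedHullLib.FlatMax
import Groth.Agent.GrpFieldLib.KerShear
import Groth.Agent.GrpHomLib.Image
import Groth.Agent.AlgSpLib.PureMono
import Groth.Agent.OrbitLib.ToAffineMain
import Groth.Agent.Dual3Lib.HomField
import Groth.Agent.GorLib.Basic
import Groth.Agent.S18057
import Groth.Agent.S11146
import Groth.Agent.S7962

/-! Schematically dominant homomorphisms to affine groups over a field are faithfully flat, without finiteness. -/

set_option autoImplicit false
set_option linter.style.haveILetI false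
set_option linter.unusedSectionVars false
set_option backward.isDefEq.respectTransparency false
set_option maxHeartbeats 1000000

universe u

open CategoryTheory CategoryTheory.Limits MonoidalCategory CartesianMonoidalCategory AlgebraicGeometry CoactBr
open scoped MonObj TensorProduct
open Groth.Agent.HomogDense Groth.Agent.GrpField

noncomputable section

attribute [-instance] CategoryTheory.Hom.commGroup

namespace DedHullLib

variable {k : Type u} [Field k]

/-- The local rings at maximal points of an algebraic group are self-injective. -/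
theorem injective_stalk_max (H : Over (Spec (CommRingCat.of k))) [GrpObj H] [LocallyOfFiniteType H.hom]
    [QuasiCompact H.hom] {x : H.left} (hx : IsMaxPt x) :
    Module.Injective (H.left.presheaf.stalk x) (H.left.presheaf.stalk x) := by
  haveI : LocCoh.IsGorensteinLocalRing k := GorLib.gorenstein_of_idlt (n := 1) (GorLib.idlt_one_iff.2
    ((Module.injective_iff_injective_object k k).2 (Groth.Agent.Dual3Lib.injective_field k)))
  haveI : Flat H.hom := Groth.Agent.GrpField.flat_field _
  haveI := (Groth.Agent.S11146.result k H).1.2 x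
  haveI : IsLocallyNoetherian H.left := LocallyOfFiniteType.isLocallyNoetherian H.hom
  haveI : IsArtinianRing (H.left.presheaf.stalk x) :=
    Groth.Agent.S18057.isArtinian_stalk_of_maximal x (fun z hz => hx z hz)
  refine GorLib.idlt_one_iff.1 (GorLib.idlt_of_dim_le (d := 0) ?_)
  rw [Nat.cast_zero]
  exact (Order.krullDimLE_iff 0 _).1 (inferInstanceAs (Ring.KrullDimLE 0 (H.left.presheaf.stalk x)))

/-- An affine scheme over a self-injective ring with injective map on functions and flat first projection is flat. -/
theorem flat_of_injective_affine {A : Type u} [CommRing A] (hA : Module.Injective A A) {X : Scheme.{u}} [IsAffine X]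
    (h : X ⟶ Spec (CommRingCat.of A)) (hinj : Function.Injective h.appTop) [Flat (pullback.fst h h)] : Flat h := by
  obtain ⟨C, e, φ, rfl⟩ : ∃ (C : CommRingCat.{u}) (e : X ≅ Spec C) (φ : CommRingCat.of A ⟶ C), h = e.hom ≫ Spec.map φ :=
    ⟨_, X.isoSpec, (Scheme.ΓSpecIso (CommRingCat.of A)).inv ≫ h.appTop, by
      rw [Spec.map_comp, Scheme.isoSpec_hom, ← Scheme.toSpecΓ_naturality_assoc, toSpecΓ_SpecMap_ΓSpecIso_inv,
        Category.comp_id]⟩
  haveI : Flat (pullback.fst (Spec.map φ) (Spec.map φ)) := by
    let sq := (IsPullback.of_hasPullback (Spec.map φ) (Spec.map φ))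
    have sq' : IsPullback (pullback.fst (Spec.map φ) (Spec.map φ) ≫ e.inv) (pullback.snd (Spec.map φ) (Spec.map φ) ≫ e.inv)
        (e.hom ≫ Spec.map φ) (e.hom ≫ Spec.map φ) :=
      sq.of_iso (Iso.refl _) e.symm e.symm (Iso.refl _) (by simp) (by simp) (by simp) (by simp)
    have h1 : Flat (pullback.fst (Spec.map φ) (Spec.map φ) ≫ e.inv) := by
      rw [← sq'.isoPullback_hom_fst]
      infer_instance
    exact (MorphismProperty.cancel_right_of_respectsIso @Flat _ e.inv).1 h1
  letI : Algebra A C := φ.hom.toAlgebra
  have hφ : φ = CommRingCat.ofHom (algebraMap A C) := rfl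
  have hC : Function.Injective (algebraMap A C) := by
    intro a b hab
    apply (Scheme.ΓSpecIso (CommRingCat.of A)).commRingCatIsoToRingEquiv.symm.injective
    apply hinj
    have hn := fun t => congr($(Scheme.ΓSpecIso_inv_naturality φ) t)
    show e.hom.appTop ((Spec.map φ).appTop ((Scheme.ΓSpecIso (CommRingCat.of A)).inv a)) =
      e.hom.appTop ((Spec.map φ).appTop ((Scheme.ΓSpecIso (CommRingCat.of A)).inv b))
    rw [show (Spec.map φ).appTop ((Scheme.ΓSpecIso (CommRingCat.of A)).inv a) = _ from (hn a).symm,
      show (Spec.map φ).appTop ((Scheme.ΓSpecIso (CommRingCat.of A)).inv b) = _ from (hn b).symm]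
    exact congrArg _ (congrArg (Scheme.ΓSpecIso C).inv hab)
  obtain ⟨r, hr⟩ := hA.out (Algebra.linearMap A C) hC LinearMap.id
  have hfl : Module.Flat C (C ⊗[A] C) := by
    rw [← RingHom.flat_algebraMap_iff]
    have h1 : Flat ((pullbackSpecIso A C C).inv ≫ pullback.fst _ _) :=
      (MorphismProperty.cancel_left_of_respectsIso @Flat _ _).2 ‹Flat (pullback.fst (Spec.map φ) (Spec.map φ))›
    rw [pullbackSpecIso_inv_fst, Flat.SpecMap_iff] at h1
    exact h1
  haveI := flat_of_retraction r (by simpa using hr 1) hfl
  haveI : Flat (Spec.map φ) := by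
    rw [hφ, Flat.SpecMap_iff]
    exact RingHom.flat_algebraMap_iff.2 inferInstance
  infer_instance

variable {G H : Over (Spec (CommRingCat.of k))} [GrpObj G] [GrpObj H]

/-- The projection from the kernel pair of a homomorphism over a field is flat. -/
theorem flat_fst_self (f : G ⟶ H) [IsMonHom f] : Flat (pullback.fst f.left f.left) := by
  have hN : AlgGrp.IsKernel (pullback.fst f η[H]) f := by
    show IsPullback _ (toUnit _) f η[H]
    rw [toUnit_unique (toUnit _) (pullback.snd f η[H])]
    exact IsPullback.of_hasPullback f η[H]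
  have sq := (Groth.Agent.GrpKerShear.isPullback_shear f (pullback.fst f η[H]) hN).map (Over.forget _)
  haveI : Flat (pullback f η[H]).hom := Groth.Agent.GrpField.flat_field _
  haveI : Flat (fst G (pullback f η[H])).left := MorphismProperty.pullback_fst _ _ ‹_›
  have sq' : IsPullback (fst G (pullback f η[H])).left
      (fst G (pullback f η[H]) * (snd G (pullback f η[H]) ≫ pullback.fst f η[H])).left f.left f.left := sq
  rw [← sq'.isoPullback_inv_fst]
  exact MorphismProperty.comp_mem _ _ _ (inferInstanceAs (Flat sq'.isoPullback.inv)) ‹_›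

/-- A schematically dominant quasi-compact homomorphism to an affine algebraic group is flat. -/
theorem flat_of_dominant_ft [LocallyOfFiniteType H.hom] [IsAffine H.left] (f : G ⟶ H) [IsMonHom f]
    [QuasiCompact f.left] [IsSchemeTheoreticallyDominant f.left] : Flat f.left := by
  haveI : CompactSpace ↥G.left := QuasiCompact.compactSpace_of_compactSpace f.left
  haveI : QuasiCompact H.hom := by
    haveI : CompactSpace H.left := inferInstance
    exact quasiCompact_of_compactSpace _
  haveI : QuasiSeparatedSpace ↥G.left := quasiSeparatedSpace_grp (G := G)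
  haveI : IsDominant f.left := inferInstance
  haveI : Surjective f.left := Groth.Agent.GrpHom.surjective_of_denseRange f f.left.denseRange
  refine flat_of_flat_over_max f fun c hc => ?_
  obtain ⟨X, π, hπs, hπf, hXa⟩ := G.left.exists_hom_isAffine_of_isZariskiLocalAtSource @Flat
  haveI := hπs; haveI := hπf; haveI := hXa
  let h := π ≫ f.left
  obtain ⟨x, rfl⟩ := π.surjective c
  let A := H.left.presheaf.stalk (f.left (π x))
  let j : Spec A ⟶ H.left := H.left.fromSpecStalk _
  haveI : Flat j := RedFlatLib.flat_fromSpecStalk _ _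
  haveI : QuasiCompact j := quasiCompact_of_compactSpace _
  haveI : QuasiCompact π := quasiCompact_of_compactSpace _
  haveI : QuasiCompact h := quasiCompact_of_compactSpace _
  have hinj : Function.Injective h.appTop := by
    rw [Scheme.Hom.comp_appTop]
    exact (AlgSpLib.appTop_injective_of_flat_surjective π).comp (f.left.app_injective ⊤)
  haveI : Flat (pullback.fst h h) := by
    haveI := flat_fst_self f
    haveI : Flat (pullback.fst h f.left) := by
      have sq := (IsPullback.of_hasPullback f.left f.left).flip
      have sq2 := (IsPullback.of_hasPullback π (pullback.fst f.left f.left))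
      have big : IsPullback (pullback.fst π (pullback.fst f.left f.left))
          (pullback.snd π (pullback.fst f.left f.left) ≫ pullback.snd f.left f.left) h f.left :=
        (sq2.flip.paste_horiz sq).flip
      rw [← big.isoPullback_inv_fst]
      exact MorphismProperty.comp_mem _ _ _ (inferInstanceAs (Flat big.isoPullback.inv))
        (MorphismProperty.pullback_fst _ _ ‹Flat (pullback.fst f.left f.left)›)
    let l : pullback h h ⟶ pullback h f.left := pullback.map h h h f.left (𝟙 _) π (𝟙 _) (by simp) (by simp [h])
    haveI : Flat l := MorphismProperty.pullbackMap (P := @Flat) (inferInstanceAs (Flat (𝟙 X))) hπf (by simp) (by simp [h])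
    rw [show pullback.fst h h = l ≫ pullback.fst h f.left by simp [l]]
    infer_instance
  let hA := pullback.snd h j
  haveI : Flat (pullback.fst hA hA) := by
    let t := pullback.fst h j
    have s0 := IsPullback.of_hasPullback hA hA
    have s1 : IsPullback (pullback.fst hA hA) (pullback.snd hA hA ≫ t) (hA ≫ j) h :=
      s0.paste_vert (IsPullback.of_hasPullback h j).flip
    have hc : hA ≫ j = t ≫ h := pullback.condition.symm
    rw [hc] at s1
    have s2 := IsPullback.of_hasPullback h h
    have w : (pullback.fst hA hA ≫ t) ≫ h = (pullback.snd hA hA ≫ t) ≫ h := by rw [Category.assoc, s1.w]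
    have s3 : IsPullback (pullback.fst hA hA) (s2.lift _ _ w) t (pullback.fst h h) :=
      IsPullback.of_bot (by rw [s2.lift_snd]; exact s1) (s2.lift_fst _ _ w).symm s2
    exact MorphismProperty.of_isPullback (P := @Flat) s3.flip ‹Flat (pullback.fst h h)›
  haveI : IsAffine (pullback h j) := inferInstance
  haveI : IsSchemeTheoreticallyDominant h := by
    refine ⟨?_⟩
    refine Scheme.IdealSheafData.ext_of_isAffine ?_
    rw [Scheme.Hom.ker_apply, Scheme.IdealSheafData.ideal_bot]
    exact (RingHom.injective_iff_ker_eq_bot _).1 hinj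
  haveI : IsSchemeTheoreticallyDominant hA := inferInstance
  haveI : QuasiCompact hA := quasiCompact_of_compactSpace _
  haveI : Flat hA := flat_of_injective_affine (injective_stalk_max H hc) hA (hA.app_injective ⊤)
  obtain ⟨z, hz, -⟩ := Scheme.Pullback.exists_preimage_pullback x (IsLocalRing.closedPoint A) (f := h) (g := j)
    (by rw [Scheme.fromSpecStalk_closedPoint]; rfl)
  have h1 : FlatLib.FlatAt ((pullback.fst h j ≫ π) ≫ f.left) z := by
    rw [FlatLib.flatAt_congr (show (pullback.fst h j ≫ π) ≫ f.left = hA ≫ j by
      rw [Category.assoc]; exact pullback.condition)]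
    exact FlatLib.flatAt_of_flat _ _
  have h2 := FlatLib.flatAt_of_comp (FlatLib.flatAt_of_flat (pullback.fst h j ≫ π) z) h1
  rwa [Scheme.Hom.comp_apply, hz] at h2

open OrbitLib.ToAffine in
/-- Finitely many functions lie in a finitely generated sub-Hopf algebra. -/
theorem exists_sub {B : Type u} [CommRing B] [HopfAlgebra k B] (s : Finset B) :
    ∃ S : Sub k B, ∀ b ∈ s, b ∈ S.alg := by
  classical
  induction s using Finset.induction_on with
  | empty =>
    obtain ⟨C, -, hfg, hC⟩ := Groth.Agent.HopfFF.exists_fg_isSubHopf (k := k) (1 : B)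
    exact ⟨⟨C, hfg, hC⟩, by simp⟩
  | insert a s _ ih =>
    obtain ⟨S, hS⟩ := ih
    obtain ⟨C, haC, hfg, hC⟩ := Groth.Agent.HopfFF.exists_fg_isSubHopf (k := k) a
    refine ⟨⟨S.alg ⊔ C, S.fg.sup hfg, Groth.Agent.S7962.isSubHopf_sup S.hopf hC⟩, fun b hb => ?_⟩
    rcases Finset.mem_insert.1 hb with rfl | hb
    · exact le_sup_right (a := S.alg) haC
    · exact le_sup_left (b := C) (hS b hb)

open OrbitLib.ToAffine in
theorem flat_to_sp {B : Type u} [CommRing B] [HopfAlgebra k B] (u : G ⟶ sp k B) [IsMonHom u]
    [QuasiCompact u.left] [IsSchemeTheoreticallyDominant u.left] : Flat u.left := by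
  haveI : CompactSpace ↥(sp k B).left := inferInstanceAs (CompactSpace (Spec (CommRingCat.of B)))
  haveI : CompactSpace ↥G.left := QuasiCompact.compactSpace_of_compactSpace u.left
  rw [IsZariskiLocalAtSource.iff_of_iSup_eq_top (P := @Flat) _ (iSup_affineOpens_eq_top G.left)]
  intro U
  haveI : IsAffine U.1.toScheme := U.2
  let m : Spec Γ(G.left, U.1) ⟶ Spec (CommRingCat.of B) := U.2.isoSpec.inv ≫ U.1.ι ≫ u.left
  obtain ⟨ψ, hψ⟩ : ∃ ψ : CommRingCat.of B ⟶ Γ(G.left, U.1), Spec.map ψ = m := Spec.map_surjective m
  suffices h : Flat (Spec.map ψ) by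
    rw [hψ] at h
    exact (MorphismProperty.cancel_left_of_respectsIso @Flat U.2.isoSpec.inv _).1 h
  rw [Flat.SpecMap_iff]
  letI : Algebra B Γ(G.left, U.1) := ψ.hom.toAlgebra
  change Module.Flat B Γ(G.left, U.1)
  refine flat_of_subrings fun s => ?_
  obtain ⟨S, hS⟩ := exists_sub (k := k) s
  refine ⟨↥S.alg, inferInstance, S.alg.val.toRingHom, fun b hb => ⟨⟨b, hS b hb⟩, rfl⟩, ?_⟩
  haveI := hopf_val S
  haveI : IsSchemeTheoreticallyDominant (pt S.alg.val).left := by
    rw [CoactBr.pt_left]
    exact ⟨ker_SpecMap_eq_bot _ Subtype.val_injective⟩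
  haveI : IsMonHom (toSub u S) := inferInstance
  haveI : IsAffine (sp k S.alg).left := inferInstanceAs (IsAffine (Spec (CommRingCat.of S.alg)))
  haveI : QuasiSeparatedSpace ↥(sp k S.alg).left := inferInstanceAs (QuasiSeparatedSpace (Spec (CommRingCat.of S.alg)))
  haveI : IsSchemeTheoreticallyDominant (toSub u S).left := inferInstanceAs (IsSchemeTheoreticallyDominant (u.left ≫ (pt S.alg.val).left))
  haveI : QuasiCompact (toSub u S).left := quasiCompact_of_compactSpace _
  haveI := flat_of_dominant_ft (toSub u S)
  have h : Flat (Spec.map (CommRingCat.ofHom S.alg.val.toRingHom ≫ ψ)) := by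
    rw [Spec.map_comp, hψ]
    show Flat ((U.2.isoSpec.inv ≫ U.1.ι ≫ u.left) ≫ (pt S.alg.val).left)
    rw [Category.assoc, Category.assoc, ← Over.comp_left]
    infer_instance
  rw [Flat.SpecMap_iff] at h
  exact h

/-- A schematically dominant quasi-compact homomorphism to an affine group over a field is faithfully flat. -/
theorem flat_surjective_of_dominant [IsAffine H.left] (f : G ⟶ H) [IsMonHom f]
    [QuasiCompact f.left] [IsSchemeTheoreticallyDominant f.left] : Flat f.left ∧ Surjective f.left := by
  haveI : IsDominant f.left := inferInstance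
  refine ⟨?_, Groth.Agent.GrpHom.surjective_of_denseRange f f.left.denseRange⟩
  obtain ⟨B, _, _, v, hv, hv'⟩ := OrbitLib.ToAffine.exists_sp H
  haveI := hv; haveI := hv'
  haveI : IsIso v.inv.left := inferInstanceAs (IsIso ((Over.forget _).map v.inv))
  haveI : QuasiCompact (f ≫ v.inv).left := inferInstanceAs (QuasiCompact (f.left ≫ v.inv.left))
  haveI : IsSchemeTheoreticallyDominant (f ≫ v.inv).left :=
    inferInstanceAs (IsSchemeTheoreticallyDominant (f.left ≫ v.inv.left))
  have h := flat_to_sp (f ≫ v.inv)
  exact (MorphismProperty.cancel_right_of_respectsIso @Flat f.left v.inv.left).1 h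

end DedHullLib
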