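import Groth.Agent.DedHullLib.Global
import Groth.Agent.S0114

/-! Finiteness of the hull map and etaleness of its kernel. -/

set_option autoImplicit false
set_option linter.style.haveILetI false
set_option backward.isDefEq.respectTransparency false
set_option maxHeartbeats 1000000

universe u

open CategoryTheory CategoryTheory.Limits MonoidalCategory CartesianMonoidalCategory AlgebraicGeometry TopologicalSpace
open scoped MonObj
open SubSpecLib SubSpecLib.Hull

noncomputable section

attribute [-instance] CategoryTheory.Hom.commGroup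

namespace DedHullLib

/-- A separated flat morphism which is a monomorphism over a schematically dense part is a monomorphism. -/
theorem mono_of_generic {S S' U : Scheme.{u}} (p : U ⟶ S) [Flat p] [IsSeparated p] (j : S' ⟶ S)
    [IsSchemeTheoreticallyDominant j] [QuasiCompact j]
    (h : ∀ {T : Scheme.{u}} (a b : T ⟶ U) (t : T ⟶ S'), a ≫ p = t ≫ j → b ≫ p = t ≫ j → a = b) : Mono p := by
  let Δ := pullback.diagonal p
  let w := pullback.fst p p ≫ p
  haveI : Flat w := inferInstanceAs (Flat (pullback.fst p p ≫ p))
  let q := pullback.fst w j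
  have hq : (q ≫ pullback.fst p p) = q ≫ pullback.snd p p :=
    h _ _ (pullback.snd w j) (by rw [Category.assoc]; exact pullback.condition)
      (by rw [Category.assoc, ← pullback.condition]; exact pullback.condition)
  have hqΔ : (q ≫ pullback.fst p p) ≫ Δ = q := by
    refine pullback.hom_ext ?_ ?_
    · rw [Category.assoc, show Δ ≫ pullback.fst p p = 𝟙 U from pullback.diagonal_fst p, Category.comp_id]
    · rw [Category.assoc, show Δ ≫ pullback.snd p p = 𝟙 U from pullback.diagonal_snd p, Category.comp_id, hq]
  have hker : Δ.ker = ⊥ := by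
    have h1 : Δ.ker ≤ q.ker := by
      have := Scheme.Hom.le_ker_comp (q ≫ pullback.fst p p) Δ
      rwa [hqΔ] at this
    rw [show q.ker = ⊥ from Scheme.Hom.ker_eq_bot q] at h1
    exact le_bot_iff.1 h1
  haveI : IsIso Δ := IsClosedImmersion.isIso_of_ker_eq Δ (𝟙 _) Δ (Category.comp_id _)
    (by rw [hker, Scheme.Hom.ker_eq_bot (𝟙 (pullback.diagonalObj p))])
  exact (pullback.isIso_diagonal_iff p).1 inferInstance

/-- Over the generic point an affine group is its own hull. -/
theorem hull_generic_inj (R : Type u) [CommRing R] [IsDomain R] (K : Type u) [Field K] [Algebra R K]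
    [IsFractionRing R K] (G : Over (Spec (CommRingCat.of R))) [QuasiCompact G.hom] [QuasiSeparated G.hom]
    (hgen : IsAffine (pullback G.hom (gp R K))) {T : Scheme.{u}} (a b : T ⟶ G.left)
    (t : T ⟶ Spec (CommRingCat.of K)) (hab : a ≫ G.left.toSpecΓ = b ≫ G.left.toSpecΓ)
    (hat : a ≫ G.hom = t ≫ gp R K) : a = b := by
  haveI := hgen
  haveI : Flat (gp R K) := flat_gp R K
  have hρ : G.left.toSpecΓ ≫ (hull G).hom = G.hom := Over.w (toHull G)
  have hbt : b ≫ G.hom = t ≫ gp R K := by rw [← hρ, ← reassoc_of% hab, hρ]; exact hat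
  let a' := pullback.lift a t hat
  let b' := pullback.lift b t hbt
  suffices h : a' = b' by
    simpa [a', b'] using congrArg (· ≫ pullback.fst G.hom (gp R K)) h
  rw [← cancel_mono (pullback G.hom (gp R K)).toSpecΓ]
  refine (isPullback_Spec_appTop G.hom (gp R K)).hom_ext ?_ ?_
  · simp only [Category.assoc, ← Scheme.toSpecΓ_naturality]
    rw [pullback.lift_fst_assoc, pullback.lift_fst_assoc, hab]
  · simp only [Category.assoc, ← Scheme.toSpecΓ_naturality]
    rw [pullback.lift_snd_assoc, pullback.lift_snd_assoc]

variable (R : Type u) [CommRing R] [IsDedekindDomain R] (G : Over (Spec (CommRingCat.of R))) [GrpObj G] [Flat G.hom]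
  [QuasiCompact G.hom] [QuasiSeparated G.hom] [LocallyOfFiniteType G.hom]

theorem lfp_toSpecΓ : LocallyOfFinitePresentation G.left.toSpecΓ := by
  obtain ⟨hfl, hsur⟩ := ff_dedekind R G
  haveI := hfl; haveI := hsur
  haveI : CompactSpace G.left := QuasiCompact.compactSpace_of_compactSpace G.hom
  haveI : QuasiCompact G.left.toSpecΓ := quasiCompact_of_compactSpace _
  have hρ : G.left.toSpecΓ ≫ (hull G).hom = G.hom := Over.w (toHull G)
  haveI : LocallyOfFiniteType (G.left.toSpecΓ ≫ (hull G).hom) := by rw [hρ]; infer_instance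
  haveI : LocallyOfFiniteType G.left.toSpecΓ := locallyOfFiniteType_of_comp _ (hull G).hom
  haveI : IsLocallyNoetherian G.left := LocallyOfFiniteType.isLocallyNoetherian G.hom
  exact MorphismProperty.of_pullback_fst_of_descendsAlong
    (P := @LocallyOfFinitePresentation) (Q := @Surjective ⊓ @Flat ⊓ @QuasiCompact) (f := G.left.toSpecΓ)
    (g := G.left.toSpecΓ) ⟨⟨inferInstance, inferInstance⟩, inferInstance⟩
    (LocallyOfFinitePresentation.iff_locallyOfFiniteType.2 inferInstance)

theorem lft_hull : LocallyOfFiniteType (hull G).hom := by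
  haveI := lfp_toSpecΓ R G
  obtain ⟨hfl, hsur⟩ := ff_dedekind R G
  haveI := hfl; haveI := hsur
  haveI : LocallyOfFinitePresentation (G.left.toSpecΓ ≫ (hull G).hom) := by
    rw [show G.left.toSpecΓ ≫ (hull G).hom = G.hom from Over.w (toHull G)]
    exact LocallyOfFinitePresentation.iff_locallyOfFiniteType.2 inferInstance
  haveI := Groth.Agent.S0114.result G.left.toSpecΓ (hull G).hom
  infer_instance

theorem etale_kernel (K : Type u) [Field K] [Algebra R K] [IsFractionRing R K]
    (hgen : IsAffine (pullback G.hom (gp R K))) (e : Spec (CommRingCat.of R) ⟶ Spec Γ(G.left, ⊤))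
    (he : e ≫ (hull G).hom = 𝟙 _) : Etale (pullback.snd G.left.toSpecΓ e) := by
  haveI := lfp_toSpecΓ R G
  haveI : Flat G.left.toSpecΓ := (ff_dedekind R G).1
  haveI : Flat (gp R K) := flat_gp R K
  haveI := dominant_gp R K
  haveI : QuasiCompact (gp R K) := quasiCompact_of_compactSpace _
  let p := pullback.snd G.left.toSpecΓ e
  haveI : FormallyUnramified p := by
    rw [IsZariskiLocalAtSource.iff_of_iSup_eq_top (P := @FormallyUnramified) _ (iSup_affineOpens_eq_top _)]
    intro U
    haveI : IsAffine U.1.toScheme := U.2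
    haveI : Flat (U.1.ι ≫ p) := inferInstanceAs (Flat (U.1.ι ≫ pullback.snd G.left.toSpecΓ e))
    haveI : IsSeparated (U.1.ι ≫ p) := inferInstance
    haveI : Mono (U.1.ι ≫ p) := by
      refine mono_of_generic (U.1.ι ≫ p) (gp R K) fun {T} a b t ha hb => ?_
      rw [← cancel_mono U.1.ι]
      have hab : (a ≫ U.1.ι) ≫ p = (b ≫ U.1.ι) ≫ p := by simp only [Category.assoc]; rw [ha, hb]
      refine pullback.hom_ext ?_ hab
      refine hull_generic_inj R K G hgen _ _ t ?_ ?_
      · rw [Category.assoc, pullback.condition, Category.assoc (b ≫ U.1.ι), pullback.condition]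
        exact (Category.assoc _ _ _).symm.trans ((congrArg (· ≫ e) hab).trans (Category.assoc _ _ _))
      · rw [Category.assoc, Category.assoc, show G.hom = G.left.toSpecΓ ≫ (hull G).hom from (Over.w (toHull G)).symm,
          reassoc_of% pullback.condition, he, Category.comp_id]
        exact ha
    haveI : IsIso (pullback.diagonal (U.1.ι ≫ p)) := (pullback.isIso_diagonal_iff _).2 inferInstance
    infer_instance
  exact Etale.of_formallyUnramified_of_flat p

end DedHullLib
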