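import Mathlib

/-! Flatness from a principal thickening and the complementary open. -/

set_option autoImplicit false
set_option linter.unusedSectionVars false
set_option maxHeartbeats 800000
set_option backward.isDefEq.respectTransparency false

universe u

open TensorProduct

namespace DedHullLib

variable {A : Type u} [CommRing A]

theorem one_tmul_eq_zero_iff {X : Type u} [AddCommGroup X] [Module A X] (t : A) (x : X) :
    ((1 : A ⧸ Ideal.span {t}) ⊗ₜ[A] x) = 0 ↔ ∃ y : X, t • y = x := by
  rw [← (TensorProduct.quotTensorEquivQuotSMul X (Ideal.span {t})).map_eq_zero_iff,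
    TensorProduct.quotTensorEquivQuotSMul_mk_one_tmul, Submodule.Quotient.mk_eq_zero,
    Submodule.ideal_span_singleton_smul, Submodule.mem_smul_pointwise_iff_exists]
  simp

/-- Multiplication by `t` stays injective on tensor products, from a presentation. -/
theorem isSMulRegular_tensor_aux {K F M N : Type u} [AddCommGroup K] [Module A K] [AddCommGroup F] [Module A F]
    [AddCommGroup M] [Module A M] [AddCommGroup N] [Module A N] (t : A) (j : K →ₗ[A] F) (π : F →ₗ[A] N)
    (hj : Function.Injective j) (hjπ : Function.Exact j π) (hπ : Function.Surjective π)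
    (hN : IsSMulRegular N t) (hFM : IsSMulRegular (F ⊗[A] M) t)
    (hQ : Module.Flat (A ⧸ Ideal.span {t}) ((A ⧸ Ideal.span {t}) ⊗[A] M)) : IsSMulRegular (N ⊗[A] M) t := by
  classical
  haveI := hQ
  let Q := A ⧸ Ideal.span {t}
  have hjQ : Function.Injective (j.baseChange Q) := by
    rw [injective_iff_map_eq_zero]
    intro z hz
    obtain ⟨k, rfl⟩ : ∃ k : K, (1 : Q) ⊗ₜ[A] k = z := TensorProduct.mk_surjective A K Q Ideal.Quotient.mk_surjective z
    rw [LinearMap.baseChange_tmul] at hz
    obtain ⟨f, hf⟩ := (one_tmul_eq_zero_iff t (j k)).1 hz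
    obtain ⟨f', rfl⟩ : f ∈ Set.range j := (hjπ f).1 (by
      apply hN
      show t • π f = t • 0
      rw [← map_smul, hf, smul_zero]
      exact hjπ.apply_apply_eq_zero k)
    exact (one_tmul_eq_zero_iff t k).2 ⟨f', hj (by rw [map_smul]; exact hf)⟩
  refine IsSMulRegular.of_right_eq_zero_of_smul fun z hz => ?_
  obtain ⟨w, rfl⟩ := LinearMap.rTensor_surjective M hπ z
  have hex : Function.Exact (j.rTensor M) (π.rTensor M) := rTensor_exact M hjπ hπ
  obtain ⟨k, hk⟩ := (hex (t • w)).1 (by rw [map_smul, hz])
  let dF := TensorProduct.AlgebraTensorModule.distribBaseChange A Q F M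
  let dK := TensorProduct.AlgebraTensorModule.distribBaseChange A Q K M
  have hnat : ∀ k : K ⊗[A] M, dF ((1 : Q) ⊗ₜ[A] (j.rTensor M k)) = (j.baseChange Q).rTensor _ (dK ((1 : Q) ⊗ₜ[A] k)) := by
    intro k
    induction k with
    | zero => simp
    | tmul a m => rfl
    | add x y hx hy => simp only [map_add, tmul_add, hx, hy]
  have hk0 : ((1 : Q) ⊗ₜ[A] k) = 0 := by
    apply dK.injective
    apply Module.Flat.rTensor_preserves_injective_linearMap (M := Q ⊗[A] M) (j.baseChange Q) hjQ
    rw [← hnat, hk, map_zero, map_zero, show ((1 : Q) ⊗ₜ[A] (t • w)) = 0 from (one_tmul_eq_zero_iff t _).2 ⟨w, rfl⟩,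
      map_zero]
  obtain ⟨k', rfl⟩ := (one_tmul_eq_zero_iff t k).1 hk0
  rw [map_smul] at hk
  rw [← hFM hk]
  exact hex.apply_apply_eq_zero k'

/-- Multiplication by `t` stays injective on tensor products with a module flat modulo `t`. -/
theorem isSMulRegular_tensor {M N : Type u} [AddCommGroup M] [Module A M] [AddCommGroup N] [Module A N] (t : A)
    (hN : IsSMulRegular N t) (hM : IsSMulRegular M t)
    (hQ : Module.Flat (A ⧸ Ideal.span {t}) ((A ⧸ Ideal.span {t}) ⊗[A] M)) : IsSMulRegular (N ⊗[A] M) t := by
  classical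
  refine isSMulRegular_tensor_aux (K := ↥(LinearMap.ker (Finsupp.linearCombination A (id : N → N)))) (F := N →₀ A) t
    (LinearMap.ker (Finsupp.linearCombination A (id : N → N))).subtype (Finsupp.linearCombination A (id : N → N))
    Subtype.val_injective (LinearMap.exact_subtype_ker_map _) (fun n => ⟨Finsupp.single n 1, by simp⟩) hN ?_ hQ
  intro a b h
  apply (TensorProduct.finsuppScalarLeft A M N).injective
  refine Finsupp.ext fun i => hM ?_
  simpa using congr(TensorProduct.finsuppScalarLeft A M N $h i)

/-- Flatness from flatness modulo `t` and away from `t`. -/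
theorem flat_of_mod_of_away {M M' : Type u} [AddCommGroup M] [Module A M] [AddCommGroup M'] [Module A M'] (t : A)
    (hA : IsSMulRegular A t) (hM : IsSMulRegular M t)
    (hQ : Module.Flat (A ⧸ Ideal.span {t}) ((A ⧸ Ideal.span {t}) ⊗[A] M))
    (f : M →ₗ[A] M') [IsLocalizedModule (Submonoid.powers t) f] [Module.Flat A M'] : Module.Flat A M := by
  rw [Module.Flat.iff_lTensor_injective']
  intro I
  rw [injective_iff_map_eq_zero]
  intro z hz
  have hI : IsSMulRegular I t := fun a b h => Subtype.ext (hA (congrArg Subtype.val h))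
  let g : M ⊗[A] I →ₗ[A] M' ⊗[A] I := AlgebraTensorModule.rTensor A I f
  have hg : g z = 0 := by
    apply Module.Flat.lTensor_preserves_injective_linearMap (M := M') I.subtype Subtype.val_injective
    rw [map_zero]
    have e : ∀ w : M ⊗[A] I, I.subtype.lTensor M' (g w) = f.rTensor A (I.subtype.lTensor M w) := by
      intro w
      induction w with
      | zero => simp
      | tmul a m => rfl
      | add x y hx hy => simp only [map_add, hx, hy]
    rw [e, hz, map_zero]
  obtain ⟨⟨_, n, rfl⟩, hs⟩ := (IsLocalizedModule.eq_zero_iff (Submonoid.powers t) g).1 hg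
  have hreg : IsSMulRegular (M ⊗[A] I) (t ^ n) := by
    have h := (isSMulRegular_tensor (M := M) (N := I) t hI hM hQ).pow n
    intro a b hab
    apply (TensorProduct.comm A M I).injective
    apply h
    simpa only [← map_smul] using congrArg (TensorProduct.comm A M I) hab
  exact hreg.right_eq_zero_of_smul hs

end DedHullLib
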