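import Groth.Agent.DedHullLib.Local

/-! The affine hull of a flat group over a Dedekind domain. -/

set_option autoImplicit false
set_option linter.style.haveILetI false
set_option backward.isDefEq.respectTransparency false
set_option maxHeartbeats 1000000

universe u

open CategoryTheory CategoryTheory.Limits MonoidalCategory CartesianMonoidalCategory AlgebraicGeometry TopologicalSpace
open scoped MonObj
open SubSpecLib SubSpecLib.Hull

noncomputable section

attribute [-instance] CategoryTheory.Hom.commGroup

namespace DedHullLib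

theorem ff_field (F : Type u) [Field F] (G : Over (Spec (CommRingCat.of F))) [GrpObj G] [QuasiCompact G.hom]
    [QuasiSeparated G.hom] : Flat G.left.toSpecΓ ∧ Surjective G.left.toSpecΓ := by
  haveI : CompactSpace G.left := QuasiCompact.compactSpace_of_compactSpace G.hom
  haveI : QuasiCompact (toHull G).left := quasiCompact_of_compactSpace _
  haveI : IsSchemeTheoreticallyDominant (toHull G).left := ⟨ker_eq_bot_of_injective _ (by
    haveI := (isΓIso_toHull G).iso
    exact (ConcreteCategory.bijective_of_isIso (toHull G).left.appTop).1)⟩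
  exact flat_surjective_of_dominant (toHull G)

/-- Functions commute with flat base change, at the level of spectra. -/
theorem isPullback_Spec_appTop {X S S' : Scheme.{u}} (f : X ⟶ S) [QuasiCompact f] [QuasiSeparated f]
    (j : S' ⟶ S) [Flat j] [IsAffine S] [IsAffine S'] :
    IsPullback (Spec.map (pullback.fst f j).appTop) (Spec.map (pullback.snd f j).appTop) (Spec.map f.appTop)
      (Spec.map j.appTop) := by
  haveI : CompactSpace X := QuasiCompact.compactSpace_of_compactSpace f
  haveI : QuasiSeparatedSpace X := quasiSeparatedSpace_of_quasiSeparated f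
  have H : IsPullback (pullback.fst f j) (pullback.snd f j) f j := IsPullback.of_hasPullback f j
  have hiso := isIso_pushoutSection_of_isQuasiSeparated_of_flat_right H (US := ⊤) (UT := ⊤) (UX := ⊤)
    le_top le_top (UY := ⊤) (by simp) (isAffineOpen_top _) (isAffineOpen_top _) isCompact_univ isQuasiSeparated_univ
  have := (isIso_pushoutSection_iff H (US := ⊤) (UT := ⊤) (UX := ⊤) le_top le_top (UY := ⊤) (by simp)).1 hiso
  simp only [Scheme.Hom.appLE, homOfLE_leOfHom] at this
  exact isPullback_SpecMap_of_isPushout _ _ _ _ (by simpa [Scheme.Hom.appTop] using this)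

theorem exists_dvr {R : Type u} [CommRing R] [IsDedekindDomain R] (hR : ¬ IsField R) (p : PrimeSpectrum R) :
    ∃ (D : Type u) (_ : CommRing D) (_ : IsDomain D) (_ : IsDiscreteValuationRing D)
      (j : Spec (CommRingCat.of D) ⟶ Spec (CommRingCat.of R)), Flat j ∧ p ∈ Set.range j := by
  obtain ⟨m, hm, hpm⟩ := Ideal.exists_le_maximal p.asIdeal p.isPrime.ne_top
  have hm0 : m ≠ ⊥ := Ring.ne_bot_of_isMaximal_of_not_isField hm hR
  haveI := IsLocalization.AtPrime.isDiscreteValuationRing_of_dedekind_domain R hm0 (Localization.AtPrime m)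
  refine ⟨Localization.AtPrime m, inferInstance, inferInstance, inferInstance,
    Spec.map (CommRingCat.ofHom (algebraMap R _)), ?_, ?_⟩
  · rw [Flat.SpecMap_iff, CommRingCat.hom_ofHom, RingHom.flat_algebraMap_iff]
    exact IsLocalization.flat _ m.primeCompl
  · show p ∈ Set.range (PrimeSpectrum.comap (algebraMap R (Localization.AtPrime m)))
    rw [PrimeSpectrum.localization_comap_range _ m.primeCompl]
    exact Set.disjoint_left.2 fun x hx hxp => hx (hpm hxp)

theorem ff_dedekind (R : Type u) [CommRing R] [IsDedekindDomain R] (G : Over (Spec (CommRingCat.of R))) [GrpObj G]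
    [Flat G.hom] [QuasiCompact G.hom] [QuasiSeparated G.hom] : Flat G.left.toSpecΓ ∧ Surjective G.left.toSpecΓ := by
  by_cases hR : IsField R
  · letI := hR.toField
    exact ff_field R G
  have sq : ∀ {D : Type u} [CommRing D] [IsDomain D] [IsDiscreteValuationRing D]
      (j : Spec (CommRingCat.of D) ⟶ Spec (CommRingCat.of R)) [Flat j],
      Flat (pullback G.hom j).toSpecΓ ∧ Surjective (pullback G.hom j).toSpecΓ := by
    intro D _ _ _ j _
    haveI : Flat (Red.bc j G).hom := MorphismProperty.pullback_snd _ _ ‹Flat G.hom›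
    haveI : QuasiCompact (Red.bc j G).hom := MorphismProperty.pullback_snd _ _ ‹QuasiCompact G.hom›
    haveI : QuasiSeparated (Red.bc j G).hom := MorphismProperty.pullback_snd _ _ ‹QuasiSeparated G.hom›
    exact ⟨flat_toSpecΓ_dvr (Red.bc j G), surjective_toSpecΓ_dvr (Red.bc j G)⟩
  constructor
  · rw [Flat.iff_flat_stalkMap]
    intro y
    obtain ⟨D, _, _, _, j, hj, c, hc⟩ := exists_dvr hR (G.hom y)
    haveI := hj
    obtain ⟨w, hw, -⟩ := Scheme.Pullback.exists_preimage_pullback y c (f := G.hom) (g := j) hc.symm
    haveI := (sq j).1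
    haveI : Flat (Spec.map (pullback.fst G.hom j).appTop) := by
      refine MorphismProperty.of_isPullback (isPullback_Spec_appTop G.hom j).flip ?_
      rw [Flat.SpecMap_iff]
      simpa [Scheme.Hom.appLE, Scheme.Hom.appTop] using
        HasRingHomProperty.appLE (P := @Flat) j hj ⟨⊤, isAffineOpen_top _⟩ ⟨⊤, isAffineOpen_top _⟩ le_top
    have h1 : FlatLib.FlatAt (pullback.fst G.hom j ≫ G.left.toSpecΓ) w := by
      rw [FlatLib.flatAt_congr (Scheme.toSpecΓ_naturality _)]
      exact FlatLib.flatAt_of_flat _ _
    have h2 := FlatLib.flatAt_of_comp (FlatLib.flatAt_of_flat (pullback.fst G.hom j) w) h1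
    rw [hw] at h2
    exact h2
  · refine ⟨fun z => ?_⟩
    let s := (Spec (CommRingCat.of R)).isoSpec.inv (Spec.map G.hom.appTop z)
    obtain ⟨D, _, _, _, j, hj, c, hc⟩ := exists_dvr hR s
    haveI := hj
    have e : Spec.map G.hom.appTop z = Spec.map j.appTop ((Spec (CommRingCat.of D)).isoSpec.hom c) := by
      rw [← Scheme.Hom.comp_apply (Spec (CommRingCat.of D)).isoSpec.hom,
        show (Spec (CommRingCat.of D)).isoSpec.hom = _ from Scheme.isoSpec_hom _,
        ← Scheme.toSpecΓ_naturality, Scheme.Hom.comp_apply, hc, ← Scheme.isoSpec_hom]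
      exact (Scheme.homeoOfIso (Spec (CommRingCat.of R)).isoSpec).apply_symm_apply _ |>.symm
    obtain ⟨z', hz', -⟩ := Scheme.exists_preimage_of_isPullback (isPullback_Spec_appTop G.hom j) z _ e
    obtain ⟨v, hv⟩ := (sq j).2.surj z'
    refine ⟨pullback.fst G.hom j v, ?_⟩
    rw [← hz', ← hv, ← Scheme.Hom.comp_apply, ← Scheme.Hom.comp_apply, Scheme.toSpecΓ_naturality]

end DedHullLib
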