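import Groth.Agent.DedHullLib.FieldFlat
import Groth.Agent.DedHullLib.Flatness
import Groth.Agent.SubSpecLib.HullSpecial
import Groth.Agent.SubSpecLib.Fibre

/-! The affine hull of a flat group over a discrete valuation ring. -/

set_option autoImplicit false
set_option linter.style.haveILetI false
set_option linter.unusedSectionVars false
set_option backward.isDefEq.respectTransparency false
set_option maxHeartbeats 1000000

universe u

open CategoryTheory CategoryTheory.Limits MonoidalCategory CartesianMonoidalCategory AlgebraicGeometry TopologicalSpace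
open scoped MonObj
open SubSpecLib SubSpecLib.Hull

noncomputable section

attribute [-instance] CategoryTheory.Hom.commGroup

namespace DedHullLib

theorem flat_snd_of_factor {X Y Y' Z : Scheme.{u}} (f : X ⟶ Y) (i : Y' ⟶ Y) (l : Z ⟶ Y')
    (h : Flat (pullback.snd f i)) : Flat (pullback.snd f (l ≫ i)) := by
  have s1 := IsPullback.of_hasPullback f i
  have s2 := IsPullback.of_hasPullback (pullback.snd f i) l
  have big := s2.paste_horiz s1
  rw [← big.isoPullback_inv_snd]
  exact MorphismProperty.comp_mem _ _ _ (inferInstanceAs (Flat big.isoPullback.inv))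
    (MorphismProperty.pullback_snd _ _ h)

theorem flat_snd_comp {X X' Y Z : Scheme.{u}} (j : X' ⟶ X) [Flat j] (f : X ⟶ Y) (q : Z ⟶ Y)
    (h : Flat (pullback.snd f q)) : Flat (pullback.snd (j ≫ f) q) := by
  have s1 := IsPullback.of_hasPullback f q
  have s2 := IsPullback.of_hasPullback j (pullback.fst f q)
  have big := s2.paste_vert s1.flip.flip
  rw [← big.isoPullback_inv_snd]
  exact MorphismProperty.comp_mem _ _ _ (inferInstanceAs (Flat big.isoPullback.inv))
    (MorphismProperty.comp_mem _ _ _ (MorphismProperty.pullback_snd _ _ ‹Flat j›) h)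

section fibre

variable {R : Type u} [CommRing R] [IsDomain R] [ValuationRing R]
  (G : Over (Spec (CommRingCat.of R))) [GrpObj G] [Flat G.hom] [QuasiCompact G.hom] [QuasiSeparated G.hom]

/-- Injectivity on functions makes the fibre of the hull map faithfully flat. -/
theorem ff_fibre {F : Type u} [Field F] (p : Spec (CommRingCat.of F) ⟶ Spec (CommRingCat.of R))
    (h : Function.Injective (fibreHull G p).left.appTop) :
    Flat (fibreHull G p).left ∧ Surjective (fibreHull G p).left := by
  haveI : IsMonHom (fibreHull G p) := inferInstanceAs (IsMonHom ((Over.pullback p).map (toHull G)))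
  haveI : QuasiCompact (Red.bc p G).hom := MorphismProperty.pullback_snd (P := @QuasiCompact) _ _ ‹_›
  haveI : QuasiCompact (fibreHull G p).left := by
    haveI : CompactSpace (Red.bc p G).left := QuasiCompact.compactSpace_of_compactSpace (Red.bc p G).hom
    exact quasiCompact_of_compactSpace _
  haveI : IsSchemeTheoreticallyDominant (fibreHull G p).left := ⟨ker_eq_bot_of_injective _ h⟩
  exact flat_surjective_of_dominant (fibreHull G p)

theorem ff_special {F : Type u} [Field F] (φ : R →+* F) (hφ : Function.Surjective φ) :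
    Flat (fibreHull G (Spec.map (CommRingCat.ofHom φ))).left ∧
      Surjective (fibreHull G (Spec.map (CommRingCat.ofHom φ))).left := by
  refine ff_fibre G _ ?_
  rw [fibreHull_left]
  exact injective_special G.hom (hull G).hom (Over.w (toHull G)) φ hφ

theorem ff_generic (K : Type u) [Field K] [Algebra R K] [IsFractionRing R K] :
    Flat (fibreHull G (Spec.map (CommRingCat.ofHom (algebraMap R K)))).left ∧
      Surjective (fibreHull G (Spec.map (CommRingCat.ofHom (algebraMap R K)))).left := by
  refine ff_fibre G _ ?_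
  let p := Spec.map (CommRingCat.ofHom (algebraMap R K))
  let Y₀ : Over (Spec (CommRingCat.of R)) := Over.mk p
  haveI : Flat Y₀.hom := flat_gp R K
  haveI : IsAffine Y₀.left := inferInstanceAs (IsAffine (Spec _))
  haveI h := isΓIso_tensor (toHull G) (𝟙 Y₀)
  haveI := h.iso
  haveI : IsIso (fibreHull G p).left.appTop := by
    rw [fibreHull_left]
    exact inferInstanceAs (IsIso (MonoidalCategory.tensorHom (toHull G) (𝟙 Y₀)).left.appTop)
  exact (ConcreteCategory.bijective_of_isIso (fibreHull G p).left.appTop).1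

theorem isPullback_fibreHull {F : Type u} [Field F] (p : Spec (CommRingCat.of F) ⟶ Spec (CommRingCat.of R)) :
    IsPullback (fibreHull G p).left (pullback.fst G.hom p) (pullback.fst (hull G).hom p) G.left.toSpecΓ := by
  refine (IsPullback.of_bot (h₂₁ := pullback.fst (hull G).hom p) (v₂₁ := (Red.bc p (hull G)).hom) (v₂₂ := (hull G).hom)
    (h₃₁ := p) ?_ ?_ (IsPullback.of_hasPullback _ _)).flip
  · rw [Over.w (fibreHull G p), show G.left.toSpecΓ ≫ (hull G).hom = G.hom from Over.w (toHull G)]
    exact IsPullback.of_hasPullback _ _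
  · exact (ActBC.pullback_map_left_fst p (toHull G)).symm

end fibre

variable {D : Type u} [CommRing D] [IsDomain D] [IsDiscreteValuationRing D]
  (G : Over (Spec (CommRingCat.of D))) [GrpObj G] [Flat G.hom] [QuasiCompact G.hom] [QuasiSeparated G.hom]

theorem eq_bot_or_closed (x : PrimeSpectrum D) : x = ⟨⊥, Ideal.isPrime_bot⟩ ∨ x = IsLocalRing.closedPoint D := by
  rcases eq_or_ne x.asIdeal ⊥ with h | h
  · exact Or.inl (PrimeSpectrum.ext h)
  · exact Or.inr (PrimeSpectrum.ext (IsLocalRing.eq_maximalIdeal (x.isPrime.isMaximal h)))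

/-- The hull map is flat at every point over the generic point. -/
theorem flatAt_generic {y : G.left} (hy : G.hom y = (⟨⊥, Ideal.isPrime_bot⟩ : PrimeSpectrum D)) :
    FlatLib.FlatAt G.left.toSpecΓ y := by
  let K := FractionRing D
  let p := Spec.map (CommRingCat.ofHom (algebraMap D K))
  haveI : Flat p := flat_gp D K
  obtain ⟨hfl, -⟩ := ff_generic G K
  obtain ⟨w, hw, -⟩ := Scheme.Pullback.exists_preimage_pullback y (IsLocalRing.closedPoint K)
    (f := G.hom) (g := p) (hy.trans (gp_closedPoint D K).symm)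
  haveI := hfl
  have h1 : FlatLib.FlatAt (pullback.fst G.hom p ≫ G.left.toSpecΓ) w := by
    rw [FlatLib.flatAt_congr (isPullback_fibreHull G p).w.symm]
    exact FlatLib.flatAt_of_flat _ _
  have h2 := FlatLib.flatAt_of_comp (FlatLib.flatAt_of_flat (pullback.fst G.hom p) w) h1
  rwa [hw] at h2

/-- The hull map is flat. -/
theorem flat_toSpecΓ_dvr : Flat G.left.toSpecΓ := by
  rw [IsZariskiLocalAtSource.iff_of_iSup_eq_top (P := @Flat) _ (iSup_affineOpens_eq_top G.left)]
  intro U
  haveI : IsAffine U.1.toScheme := U.2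
  let A : CommRingCat.{u} := Γ(G.left, ⊤)
  let M : CommRingCat.{u} := Γ(G.left, U.1)
  let m : Spec M ⟶ Spec A := U.2.isoSpec.inv ≫ U.1.ι ≫ G.left.toSpecΓ
  obtain ⟨ψ, hψ⟩ : ∃ ψ : A ⟶ M, Spec.map ψ = m := Spec.map_surjective m
  suffices h : Flat (Spec.map ψ) by
    rw [hψ] at h
    exact (MorphismProperty.cancel_left_of_respectsIso @Flat U.2.isoSpec.inv _).1 h
  obtain ⟨σ, hσ⟩ : ∃ σ : CommRingCat.of D ⟶ A, Spec.map σ = (hull G).hom := Spec.map_surjective _
  haveI : Flat (Spec.map σ) := by rw [hσ]; exact flat_hull G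
  have hcomp : Spec.map ψ ≫ Spec.map σ = U.2.isoSpec.inv ≫ U.1.ι ≫ G.hom := by
    rw [hψ, hσ]
    simp only [m, Category.assoc]
    rw [show G.left.toSpecΓ ≫ (hull G).hom = G.hom from Over.w (toHull G)]
  obtain ⟨π, hπ⟩ := IsDiscreteValuationRing.exists_irreducible D
  let t : A := σ π
  letI : Algebra D A := σ.hom.toAlgebra
  letI : Algebra A M := ψ.hom.toAlgebra
  letI : Algebra D M := (σ ≫ ψ).hom.toAlgebra
  haveI : IsScalarTower D A M := IsScalarTower.of_algebraMap_eq fun _ => rfl
  haveI : Module.Flat D A := (Flat.SpecMap_iff (f := σ)).1 ‹_›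
  haveI : Module.Flat D M := (Flat.SpecMap_iff (f := σ ≫ ψ)).1 (by rw [Spec.map_comp, hcomp]; infer_instance)
  have hπ0 : IsSMulRegular D π := IsSMulRegular.of_ne_zero hπ.ne_zero
  have hA : IsSMulRegular A t := fun a b h =>
    (hπ0.of_flat (S := A)) (by simpa [Algebra.smul_def, t, RingHom.algebraMap_toAlgebra] using h)
  have hM : IsSMulRegular M t := fun a b h => by
    refine (hπ0.of_flat (S := M)) ?_
    simpa [Algebra.smul_def, t, RingHom.algebraMap_toAlgebra] using h
  let M' := Localization.Away (algebraMap A M t)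
  haveI : Module.Flat A M' := by
    suffices h : Flat (Spec.map (CommRingCat.ofHom (algebraMap M M')) ≫ Spec.map ψ) by
      rw [← Spec.map_comp, Flat.SpecMap_iff] at h
      rw [← RingHom.flat_algebraMap_iff, IsScalarTower.algebraMap_eq A M M']
      exact h
    rw [Flat.iff_flat_stalkMap]
    intro z
    haveI : IsOpenImmersion (Spec.map (CommRingCat.ofHom (algebraMap M M'))) :=
      IsOpenImmersion.of_isLocalization (algebraMap A M t)
    let e := Spec.map (CommRingCat.ofHom (algebraMap M M')) ≫ U.2.isoSpec.inv ≫ U.1.ι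
    have he : Spec.map (CommRingCat.ofHom (algebraMap M M')) ≫ Spec.map ψ = e ≫ G.left.toSpecΓ := by
      rw [hψ]; simp only [m, e, Category.assoc]
    show FlatLib.FlatAt _ z
    rw [FlatLib.flatAt_congr he]
    refine FlatLib.flatAt_comp (FlatLib.flatAt_of_flat e z) (flatAt_generic G ?_)
    rw [← Scheme.Hom.comp_apply, show e ≫ G.hom = Spec.map (CommRingCat.ofHom (algebraMap M M')) ≫ Spec.map (σ ≫ ψ) by
      rw [Spec.map_comp, hcomp]; simp only [e, Category.assoc], ← Spec.map_comp]
    rcases eq_bot_or_closed ((Spec.map ((σ ≫ ψ) ≫ CommRingCat.ofHom (algebraMap M M'))) z) with h | h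
    · exact h
    · exfalso
      have h2 : π ∈ ((Spec.map ((σ ≫ ψ) ≫ CommRingCat.ofHom (algebraMap M M'))) z : PrimeSpectrum D).asIdeal := by
        rw [h]
        exact hπ.not_isUnit
      exact z.isPrime.ne_top (Ideal.eq_top_of_isUnit_mem _ h2 (IsLocalization.Away.algebraMap_isUnit (algebraMap A M t)))
  haveI : IsLocalizedModule (Submonoid.powers t) (IsScalarTower.toAlgHom A M M').toLinearMap := by
    rw [isLocalizedModule_iff_isLocalization, Algebra.algebraMapSubmonoid_powers]
    infer_instance
  have hQ : Module.Flat (A ⧸ Ideal.span {t}) (TensorProduct A (A ⧸ Ideal.span {t}) M) := by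
    let κ := IsLocalRing.ResidueField D
    let φ := IsLocalRing.residue D
    let p := Spec.map (CommRingCat.ofHom φ)
    let q : A ⟶ CommRingCat.of (A ⧸ Ideal.span {t}) := CommRingCat.ofHom (Ideal.Quotient.mk _)
    have hker : RingHom.ker φ ≤ RingHom.ker (q.hom.comp σ.hom) := by
      rw [IsLocalRing.ker_residue, hπ.maximalIdeal_eq, Ideal.span_singleton_le_iff_mem, RingHom.mem_ker]
      exact Ideal.Quotient.eq_zero_iff_mem.2 (Ideal.mem_span_singleton_self t)
    obtain ⟨τ, hτ⟩ : ∃ τ : κ →+* A ⧸ Ideal.span {t}, τ.comp φ = q.hom.comp σ.hom :=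
      ⟨φ.liftOfSurjective IsLocalRing.residue_surjective ⟨_, hker⟩,
        RingHom.liftOfRightInverse_comp φ _ _ ⟨_, hker⟩⟩
    let l : Spec (CommRingCat.of (A ⧸ Ideal.span {t})) ⟶ pullback (hull G).hom p :=
      pullback.lift (Spec.map q) (Spec.map (CommRingCat.ofHom τ)) (by
        rw [← hσ, ← Spec.map_comp, ← Spec.map_comp]
        exact congrArg Spec.map (CommRingCat.hom_ext hτ.symm))
    obtain ⟨hfl, -⟩ := ff_special G φ IsLocalRing.residue_surjective
    have h1 : Flat (pullback.snd G.left.toSpecΓ (pullback.fst (hull G).hom p)) := by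
      have sq := (isPullback_fibreHull G p).flip
      rw [← sq.isoPullback_inv_snd]
      exact MorphismProperty.comp_mem _ _ _ (inferInstanceAs (Flat sq.isoPullback.inv)) hfl
    have h2 : Flat (pullback.snd G.left.toSpecΓ (Spec.map q)) := by
      have := flat_snd_of_factor _ _ l h1
      rwa [show l ≫ pullback.fst (hull G).hom p = Spec.map q from pullback.lift_fst _ _ _] at this
    have h3 : Flat (pullback.snd ((U.2.isoSpec.inv ≫ U.1.ι) ≫ G.left.toSpecΓ) (Spec.map q)) :=
      flat_snd_comp _ _ _ h2
    rw [Category.assoc, show U.2.isoSpec.inv ≫ U.1.ι ≫ G.left.toSpecΓ = Spec.map ψ from hψ.symm] at h3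
    have h4 : Flat (pullback.fst (Spec.map q) (Spec.map ψ)) := by
      rw [← pullbackSymmetry_hom_comp_snd]
      exact MorphismProperty.comp_mem _ _ _ (inferInstanceAs (Flat (pullbackSymmetry _ _).hom)) h3
    have h5 : Flat ((pullbackSpecIso A (A ⧸ Ideal.span {t}) M).inv ≫ pullback.fst _ _) :=
      (MorphismProperty.cancel_left_of_respectsIso @Flat _ _).2 h4
    rw [pullbackSpecIso_inv_fst, Flat.SpecMap_iff] at h5
    rw [← RingHom.flat_algebraMap_iff]
    exact h5
  haveI : Module.Flat A M := flat_of_mod_of_away t hA hM hQ (IsScalarTower.toAlgHom A M M').toLinearMap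
  rw [Flat.SpecMap_iff]
  exact RingHom.flat_algebraMap_iff.2 ‹Module.Flat A M›

/-- The hull map is surjective. -/
theorem surjective_toSpecΓ_dvr : Surjective G.left.toSpecΓ := by
  refine ⟨fun y => ?_⟩
  have key : ∀ {F : Type u} [Field F] (p : Spec (CommRingCat.of F) ⟶ Spec (CommRingCat.of D)),
      Surjective (fibreHull G p).left → (hull G).hom y ∈ Set.range p → ∃ x, G.left.toSpecΓ x = y := by
    intro F _ p hs ⟨c, hc⟩
    obtain ⟨w, hw, -⟩ := Scheme.Pullback.exists_preimage_pullback y c (f := (hull G).hom) (g := p) hc.symm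
    obtain ⟨v, rfl⟩ := hs.surj w
    refine ⟨pullback.fst G.hom p v, ?_⟩
    rw [← hw, ← Scheme.Hom.comp_apply]
    exact congr($((isPullback_fibreHull G p).w.symm) v)
  rcases eq_bot_or_closed ((hull G).hom y) with h | h
  · exact key _ (ff_generic G (FractionRing D)).2 ⟨IsLocalRing.closedPoint _, (gp_closedPoint D _).trans h.symm⟩
  · exact key _ (ff_special G (IsLocalRing.residue D) IsLocalRing.residue_surjective).2
      ⟨IsLocalRing.closedPoint _, (sp_closedPoint _ IsLocalRing.residue_surjective).trans h.symm⟩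

end DedHullLib
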