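import Mathlib

/-! Descent of flatness along split injective ring maps and along unions of subrings. -/

set_option autoImplicit false
set_option linter.unusedSectionVars false
set_option maxHeartbeats 800000

universe u v

open TensorProduct

namespace DedHullLib

/-- If `A → C` has a linear retraction and `C ⊗ C` is flat over the left factor, then `C` is flat. -/
theorem flat_of_retraction {A C : Type u} [CommRing A] [CommRing C] [Algebra A C] (r : C →ₗ[A] A) (hr : r 1 = 1)
    (hfl : Module.Flat C (C ⊗[A] C)) : Module.Flat A C := by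
  classical
  haveI := hfl
  refine Module.Flat.of_forall_isTrivialRelation fun {l f x} h => ?_
  let π : C ⊗[A] C →ₗ[A] C := TensorProduct.lift (r.smulRight (LinearMap.id : C →ₗ[A] C))
  have hπ : ∀ c n, π (c ⊗ₜ n) = r c • n := fun c n => rfl
  have hrel : ∑ i, algebraMap A C (f i) • ((1 : C) ⊗ₜ[A] x i) = 0 := by
    simp_rw [algebraMap_smul, ← TensorProduct.tmul_smul]
    rw [← TensorProduct.tmul_sum, h, TensorProduct.tmul_zero]
  obtain ⟨K, a, y, hy, ha⟩ := Module.Flat.isTrivialRelation_of_sum_smul_eq_zero hrel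
  choose T hT using fun j => TensorProduct.exists_finset (y j)
  let ι := Σ j, ↥(T j)
  let e : ι ≃ Fin (Fintype.card ι) := Fintype.equivFin ι
  refine ⟨Fintype.card ι, fun i n => r (a i (e.symm n).1 * (e.symm n).2.1.1), fun n => (e.symm n).2.1.2, fun i => ?_,
    fun n => ?_⟩
  · have h1 : x i = π ((1 : C) ⊗ₜ[A] x i) := by rw [hπ, hr, one_smul]
    beta_reduce at hy ⊢
    rw [h1, hy i, map_sum, ← e.sum_comp (fun n => r (a i (e.symm n).1 * (e.symm n).2.1.1) • (e.symm n).2.1.2)]
    simp only [Equiv.symm_apply_apply]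
    rw [Fintype.sum_sigma]
    refine Finset.sum_congr rfl fun j _ => ?_
    rw [hT j, Finset.smul_sum, map_sum, ← Finset.sum_coe_sort]
    refine Finset.sum_congr rfl fun p _ => ?_
    rw [TensorProduct.smul_tmul', hπ, smul_eq_mul, Equiv.symm_apply_apply]
  · show ∑ i, f i * r (a i (e.symm n).1 * (e.symm n).2.1.1) = 0
    generalize e.symm n = jp
    obtain ⟨j, p⟩ := jp
    have h2 := ha j
    calc ∑ i, f i * r (a i j * p.1.1) = r ((∑ i, algebraMap A C (f i) * a i j) * p.1.1) := by
          rw [Finset.sum_mul, map_sum]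
          refine Finset.sum_congr rfl fun i _ => ?_
          rw [_root_.mul_assoc, ← Algebra.smul_def, map_smul, smul_eq_mul]
      _ = 0 := by rw [h2, zero_mul, map_zero]

/-- A module flat over enough subrings is flat. -/
theorem flat_of_subrings {B : Type u} [CommRing B] {M : Type v} [AddCommGroup M] [Module B M]
    (h : ∀ s : Finset B, ∃ (S : Type u) (_ : CommRing S) (φ : S →+* B), (∀ b ∈ s, b ∈ φ.range) ∧
      @Module.Flat S M _ _ (Module.compHom M φ)) : Module.Flat B M := by
  classical
  refine Module.Flat.of_forall_isTrivialRelation fun {l f x} hfx => ?_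
  obtain ⟨S, _, φ, hs, hfl⟩ := h (Finset.univ.image f)
  letI := Module.compHom M φ
  haveI := hfl
  choose g hg using fun i => hs (f i) (Finset.mem_image_of_mem f (Finset.mem_univ i))
  have hsm : ∀ (s : S) (m : M), s • m = φ s • m := fun s m => rfl
  have hrel : ∑ i, g i • x i = 0 := by
    simp_rw [hsm, hg]
    exact hfx
  obtain ⟨K, a, y, hy, ha⟩ := Module.Flat.isTrivialRelation_of_sum_smul_eq_zero hrel
  refine ⟨K, fun i j => φ (a i j), y, fun i => ?_, fun j => ?_⟩
  · rw [hy i]
    rfl
  · simp_rw [← hg, ← map_mul, ← map_sum, ha j, map_zero]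

end DedHullLib
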