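import Groth.Agent.DedHullLib.Global

/-! A flat separated surjection of flat schemes which is injective over a schematically dense part of the base. -/

set_option autoImplicit false
set_option linter.style.haveILetI false
set_option backward.isDefEq.respectTransparency false
set_option maxHeartbeats 1000000

universe u

open CategoryTheory CategoryTheory.Limits MonoidalCategory CartesianMonoidalCategory AlgebraicGeometry TopologicalSpace
open scoped MonObj
open SubSpecLib SubSpecLib.Hull

noncomputable section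

attribute [-instance] CategoryTheory.Hom.commGroup

namespace DedHullLib

theorem isIso_of_mono_generic {S S' X Y : Scheme.{u}} (g : Y ⟶ S) [Flat g] (ρ : X ⟶ Y) [Flat ρ] [Surjective ρ]
    [QuasiCompact ρ] [IsSeparated ρ] (j : S' ⟶ S) [IsSchemeTheoreticallyDominant j] [QuasiCompact j]
    (h : ∀ {T : Scheme.{u}} (a b : T ⟶ X) (t : T ⟶ S'), a ≫ ρ = b ≫ ρ → a ≫ ρ ≫ g = t ≫ j → a = b) : IsIso ρ := by
  let Δ := pullback.diagonal ρ
  let w := pullback.fst ρ ρ ≫ ρ ≫ g
  haveI : Flat w := inferInstanceAs (Flat (pullback.fst ρ ρ ≫ ρ ≫ g))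
  let q := pullback.fst w j
  have hq : (q ≫ pullback.fst ρ ρ) = q ≫ pullback.snd ρ ρ :=
    h _ _ (pullback.snd w j) (by rw [Category.assoc, Category.assoc, pullback.condition])
      (by rw [Category.assoc]; exact pullback.condition)
  have hqΔ : (q ≫ pullback.fst ρ ρ) ≫ Δ = q := by
    refine pullback.hom_ext ?_ ?_
    · rw [Category.assoc, show Δ ≫ pullback.fst ρ ρ = 𝟙 X from pullback.diagonal_fst ρ, Category.comp_id]
    · rw [Category.assoc, show Δ ≫ pullback.snd ρ ρ = 𝟙 X from pullback.diagonal_snd ρ, Category.comp_id, hq]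
  have hker : Δ.ker = ⊥ := by
    have h1 : Δ.ker ≤ q.ker := by
      have := Scheme.Hom.le_ker_comp (q ≫ pullback.fst ρ ρ) Δ
      rwa [hqΔ] at this
    rw [show q.ker = ⊥ from Scheme.Hom.ker_eq_bot q] at h1
    exact le_bot_iff.1 h1
  haveI : IsIso Δ := IsClosedImmersion.isIso_of_ker_eq Δ (𝟙 _) Δ (Category.comp_id _)
    (by rw [hker, Scheme.Hom.ker_eq_bot (𝟙 (pullback.diagonalObj ρ))])
  haveI : Mono ρ := (pullback.isIso_diagonal_iff ρ).1 inferInstance
  exact MorphismProperty.of_pullback_fst_of_descendsAlong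
    (P := MorphismProperty.isomorphisms Scheme.{u}) (Q := @Surjective ⊓ @Flat ⊓ @QuasiCompact) (f := ρ) (g := ρ)
    ⟨⟨inferInstance, inferInstance⟩, inferInstance⟩ (inferInstanceAs (IsIso (pullback.fst ρ ρ)))

/-- A flat separated group over a Dedekind domain with affine generic fibre is affine. -/
theorem isIso_toSpecΓ (R : Type u) [CommRing R] [IsDedekindDomain R] (K : Type u) [Field K] [Algebra R K]
    [IsFractionRing R K] (G : Over (Spec (CommRingCat.of R))) [GrpObj G] [Flat G.hom] [IsSeparated G.hom]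
    [QuasiCompact G.hom] (hgen : IsAffine (pullback G.hom (gp R K))) : IsIso G.left.toSpecΓ := by
  obtain ⟨hfl, hsur⟩ := ff_dedekind R G
  haveI := hfl; haveI := hsur
  haveI : CompactSpace G.left := QuasiCompact.compactSpace_of_compactSpace G.hom
  haveI : QuasiCompact G.left.toSpecΓ := quasiCompact_of_compactSpace _
  have hρ : G.left.toSpecΓ ≫ (hull G).hom = G.hom := Over.w (toHull G)
  haveI : IsSeparated (G.left.toSpecΓ ≫ (hull G).hom) := by rw [hρ]; infer_instance
  haveI : IsSeparated G.left.toSpecΓ := IsSeparated.of_comp _ (hull G).hom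
  haveI : Flat (hull G).hom := by
    have : Flat (G.left.toSpecΓ ≫ (hull G).hom) := by rw [hρ]; infer_instance
    rw [Flat.iff_flat_stalkMap]
    intro z
    obtain ⟨x, rfl⟩ := hsur.surj z
    exact FlatLib.flatAt_of_comp (FlatLib.flatAt_of_flat G.left.toSpecΓ x) (FlatLib.flatAt_of_flat _ x)
  haveI : Flat (gp R K) := flat_gp R K
  haveI := dominant_gp R K
  haveI := hgen
  haveI : QuasiCompact (gp R K) := quasiCompact_of_compactSpace _
  refine isIso_of_mono_generic (hull G).hom G.left.toSpecΓ (gp R K) fun {T} a b t hab hat => ?_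
  have hbt : b ≫ G.hom = t ≫ gp R K := by rw [← hρ, ← reassoc_of% hab]; exact hat
  rw [hρ] at hat
  let a' := pullback.lift a t hat
  let b' := pullback.lift b t hbt
  suffices h : a' = b' by
    simpa [a', b'] using congrArg (· ≫ pullback.fst G.hom (gp R K)) h
  rw [← cancel_mono (pullback G.hom (gp R K)).toSpecΓ]
  refine (isPullback_Spec_appTop G.hom (gp R K)).hom_ext ?_ ?_
  · simp only [Category.assoc, ← Scheme.toSpecΓ_naturality]
    rw [pullback.lift_fst_assoc, pullback.lift_fst_assoc, hab]
  · simp only [Category.assoc, ← Scheme.toSpecΓ_naturality]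
    rw [pullback.lift_snd_assoc, pullback.lift_snd_assoc]

end DedHullLib
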