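import Groth.Agent.DedHullLib.RelField
import Groth.Agent.DedHullLib.Fibrewise
import Groth.Agent.DedHullLib.Separated

/-! The relative affine hull of a homomorphism from a flat group over a Dedekind domain. -/

set_option autoImplicit false
set_option linter.style.haveILetI false
set_option linter.unusedSectionVars false
set_option backward.isDefEq.respectTransparency false
set_option maxHeartbeats 1000000

universe u

open CategoryTheory CategoryTheory.Limits MonoidalCategory CartesianMonoidalCategory AlgebraicGeometry TopologicalSpace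
open scoped MonObj
open SubSpecLib RelHullLib

noncomputable section

attribute [-instance] CategoryTheory.Hom.commGroup

namespace DedHullLib

theorem isPullback_bcMap {S S' : Scheme.{u}} (j : S' ⟶ S) {X Y : Over S} (f : X ⟶ Y) :
    IsPullback ((Over.pullback j).map f).left (pullback.fst X.hom j) (pullback.fst Y.hom j) f.left := by
  refine (IsPullback.of_bot (h₂₁ := pullback.fst Y.hom j) (v₂₁ := (Red.bc j Y).hom) (v₂₂ := Y.hom)
    (h₃₁ := j) ?_ ?_ (IsPullback.of_hasPullback _ _)).flip
  · rw [Over.w ((Over.pullback j).map f), Over.w f]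
    exact IsPullback.of_hasPullback _ _
  · exact (ActBC.pullback_map_left_fst j f).symm

section dvr

variable {D : Type u} [CommRing D] [IsDomain D] [IsDiscreteValuationRing D]
  {G H G₀ : Over (Spec (CommRingCat.of D))} [GrpObj G] [GrpObj H] [GrpObj G₀] [Flat G.hom] [Flat H.hom]
  [LocallyOfFiniteType G.hom] [QuasiCompact G.hom] [LocallyOfFiniteType G₀.hom]
  (ρ : G ⟶ H) [IsMonHom ρ] (q : H ⟶ G₀) [IsMonHom q] [IsAffineHom q.left] [QuasiCompact ρ.left]
  [QuasiSeparated ρ.left] [IsΓ ρ.left]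

theorem injective_special_open {F : Type u} [Field F] (φ : D →+* F) (hφ : Function.Surjective φ)
    {X Y : Scheme.{u}} [IsAffine Y] (f : X ⟶ Y) (gY : Y ⟶ Spec (CommRingCat.of D)) [Flat (f ≫ gY)] [QuasiCompact f]
    [IsIso f.appTop] :
    Function.Injective (pullback.map (f ≫ gY) (Spec.map (CommRingCat.ofHom φ)) gY (Spec.map (CommRingCat.ofHom φ))
      f (𝟙 _) (𝟙 _) (by simp) (by simp)).appTop := by
  let gY' := Spec.map f.appTop ≫ Y.isoSpec.inv ≫ gY
  have hw : X.toSpecΓ ≫ gY' = f ≫ gY := by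
    simp only [gY', ← Scheme.toSpecΓ_naturality_assoc, ← Scheme.isoSpec_hom, Iso.hom_inv_id_assoc]
  have h := SubSpecLib.Hull.injective_special (f ≫ gY) gY' hw φ hφ
  let e : pullback gY' (Spec.map (CommRingCat.ofHom φ)) ⟶ pullback gY (Spec.map (CommRingCat.ofHom φ)) :=
    pullback.map _ _ _ _ (Spec.map f.appTop ≫ Y.isoSpec.inv) (𝟙 _) (𝟙 _) (by simp [gY']) (by simp)
  haveI : IsIso e := inferInstance
  have heq : pullback.map (f ≫ gY) (Spec.map (CommRingCat.ofHom φ)) gY (Spec.map (CommRingCat.ofHom φ))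
      f (𝟙 _) (𝟙 _) (by simp) (by simp) = pullback.map (f ≫ gY) _ gY' _ X.toSpecΓ (𝟙 _) (𝟙 _)
        ((Category.comp_id _).trans hw.symm) (by simp) ≫ e := by
    refine pullback.hom_ext ?_ (by simp [e])
    simp only [e, Category.assoc, pullback.lift_fst, pullback.lift_fst_assoc]
    rw [← Scheme.toSpecΓ_naturality_assoc, ← Scheme.isoSpec_hom, Iso.hom_inv_id, Category.comp_id]
  rw [heq, Scheme.Hom.comp_appTop]
  exact h.comp (ConcreteCategory.bijective_of_isIso e.appTop).1

theorem dominant_special {F : Type u} [Field F] (φ : D →+* F) (hφ : Function.Surjective φ) :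
    IsSchemeTheoreticallyDominant ((Over.pullback (Spec.map (CommRingCat.ofHom φ))).map ρ).left := by
  let p := Spec.map (CommRingCat.ofHom φ)
  let ρF := ((Over.pullback p).map ρ).left
  haveI : QuasiCompact ρF := MorphismProperty.of_isPullback (isPullback_bcMap p ρ).flip ‹QuasiCompact ρ.left›
  haveI : IsAffineHom (pullback.fst H.hom p) := MorphismProperty.pullback_fst _ _ inferInstance
  refine ⟨Scheme.IdealSheafData.ext_of_iSup_eq_top
    (fun W : H.left.affineOpens => ⟨pullback.fst H.hom p ⁻¹ᵁ W.1, W.2.preimage _⟩) ?_ fun W => ?_⟩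
  · refine top_le_iff.1 fun z _ => Opens.mem_iSup.2 ?_
    obtain ⟨W, hW, hz, -⟩ := exists_isAffineOpen_mem_and_subset (X := H.left) (x := pullback.fst H.hom p z) (U := ⊤) trivial
    exact ⟨⟨W, hW⟩, hz⟩
  rw [Scheme.Hom.ker_apply, Scheme.IdealSheafData.ideal_bot, Pi.bot_apply, ← RingHom.injective_iff_ker_eq_bot]
  let O := pullback.fst H.hom p ⁻¹ᵁ W.1
  let f := ρ.left ∣_ W.1
  haveI : IsAffine W.1.toScheme := W.2
  haveI : Flat (f ≫ W.1.ι ≫ H.hom) := by
    rw [morphismRestrict_ι_assoc, Over.w ρ]; infer_instance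
  haveI : IsIso f.appTop := IsΓ.iso _
  let gX := f ≫ W.1.ι ≫ H.hom
  let m : pullback gX p ⟶ pullback (W.1.ι ≫ H.hom) p := pullback.map _ _ _ _ f (𝟙 _) (𝟙 _) (by simp [gX]) (by simp)
  have hm : Function.Injective m.appTop := injective_special_open φ hφ f (W.1.ι ≫ H.hom)
  have sq := (IsPullback.of_hasPullback W.1.ι (pullback.fst H.hom p)).paste_vert (IsPullback.of_hasPullback H.hom p).flip.flip
  let i : pullback (W.1.ι ≫ H.hom) p ⟶ pullback H.hom p := pullback.map _ _ _ _ W.1.ι (𝟙 _) (𝟙 _) (by simp) (by simp)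
  let k : pullback gX p ⟶ pullback G.hom p := pullback.map _ _ _ _ (ρ.left ⁻¹ᵁ W.1).ι (𝟙 _) (𝟙 _)
    (by simp [gX, f, morphismRestrict_ι_assoc]) (by simp)
  haveI : IsOpenImmersion i := inferInstance
  have hcomm : k ≫ ρF = m ≫ i := by
    refine pullback.hom_ext ?_ ?_
    · rw [Category.assoc, show ρF ≫ pullback.fst H.hom p = pullback.fst G.hom p ≫ ρ.left from ActBC.pullback_map_left_fst p ρ]
      simp [k, m, i, f, morphismRestrict_ι]
    · rw [Category.assoc, show ρF ≫ pullback.snd H.hom p = pullback.snd G.hom p from Over.w ((Over.pullback p).map ρ)]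
      simp [k, m, i]
  have hi : i ⁻¹ᵁ O = ⊤ := by
    rw [← Scheme.Hom.comp_preimage, show i ≫ pullback.fst H.hom p = pullback.fst _ _ ≫ W.1.ι from pullback.lift_fst _ _ _,
      Scheme.Hom.comp_preimage, Scheme.Opens.ι_preimage_self, Scheme.Hom.preimage_top]
  have hO : O ≤ i.opensRange := by
    intro z hz
    obtain ⟨w, hw⟩ : pullback.fst H.hom p z ∈ Set.range W.1.ι := by rw [Scheme.Opens.range_ι]; exact hz
    show z ∈ Set.range i
    rw [show i = _ from rfl, Scheme.Pullback.range_map]
    exact ⟨⟨w, hw⟩, ⟨_, rfl⟩⟩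
  haveI : IsIso (i.appLE O ⊤ hi.ge) := by
    rw [Scheme.Hom.appLE]
    haveI := i.isIso_app O hO
    haveI : IsIso ((pullback (W.1.ι ≫ H.hom) p).presheaf.map (homOfLE hi.ge).op) := by
      rw [show homOfLE hi.ge = eqToHom hi.symm from Subsingleton.elim _ _]; infer_instance
    infer_instance
  have hk : (⊤ : (pullback gX p).Opens) ≤ k ⁻¹ᵁ (ρF ⁻¹ᵁ O) := by
    rw [← Scheme.Hom.comp_preimage, hcomm, Scheme.Hom.comp_preimage, hi]; simp
  have e : ρF.app O ≫ k.appLE (ρF ⁻¹ᵁ O) ⊤ hk = i.appLE O ⊤ hi.ge ≫ m.appTop := by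
    rw [Scheme.Hom.app_eq_appLE, Scheme.Hom.appLE_comp_appLE, Scheme.Hom.appTop, Scheme.Hom.app_eq_appLE,
      Scheme.Hom.appLE_comp_appLE]
    simp only [hcomm]
    rfl
  intro a b hab
  apply (ConcreteCategory.bijective_of_isIso (i.appLE O ⊤ hi.ge)).1
  apply hm
  rw [← CommRingCat.comp_apply, ← CommRingCat.comp_apply, ← e, CommRingCat.comp_apply, CommRingCat.comp_apply]
  exact congrArg _ hab

include q in
theorem ff_bc {F : Type u} [Field F] (p : Spec (CommRingCat.of F) ⟶ Spec (CommRingCat.of D))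
    (h : IsSchemeTheoreticallyDominant ((Over.pullback p).map ρ).left) :
    Flat ((Over.pullback p).map ρ).left ∧ Surjective ((Over.pullback p).map ρ).left := by
  haveI := h
  haveI : IsMonHom ((Over.pullback p).map ρ) := inferInstance
  haveI : IsMonHom ((Over.pullback p).map q) := inferInstance
  haveI : LocallyOfFiniteType (Red.bc p G).hom := MorphismProperty.pullback_snd _ _ ‹LocallyOfFiniteType G.hom›
  haveI : LocallyOfFiniteType (Red.bc p G₀).hom := MorphismProperty.pullback_snd _ _ ‹LocallyOfFiniteType G₀.hom›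
  haveI : QuasiCompact (Red.bc p G).hom := MorphismProperty.pullback_snd _ _ ‹QuasiCompact G.hom›
  haveI : QuasiCompact ((Over.pullback p).map ρ).left :=
    MorphismProperty.of_isPullback (isPullback_bcMap p ρ).flip ‹QuasiCompact ρ.left›
  haveI : IsAffineHom ((Over.pullback p).map q).left :=
    MorphismProperty.of_isPullback (isPullback_bcMap p q).flip ‹IsAffineHom q.left›
  exact ff_of_affine_over ((Over.pullback p).map ρ) ((Over.pullback p).map q)

/-- The relative hull map over a DVR is faithfully flat. -/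
theorem ff_rel_dvr (ρ : G ⟶ H) [IsMonHom ρ] (q : H ⟶ G₀) [IsMonHom q] [IsAffineHom q.left] [QuasiCompact ρ.left]
    [QuasiSeparated ρ.left] [IsΓ ρ.left] : Flat ρ.left ∧ Surjective ρ.left := by
  let p := Spec.map (CommRingCat.ofHom (algebraMap D (FractionRing D)))
  let p' := Spec.map (CommRingCat.ofHom (IsLocalRing.residue D))
  haveI : Flat p := flat_gp D _
  obtain ⟨gfl, gsur⟩ := ff_bc ρ q p (by
    haveI : QuasiCompact ((Over.pullback p).map ρ).left :=
      MorphismProperty.of_isPullback (isPullback_bcMap p ρ).flip ‹QuasiCompact ρ.left›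
    haveI : Flat (pullback.fst H.hom p) := MorphismProperty.pullback_fst _ _ ‹Flat p›
    haveI := isΓ_of_isPullback (isPullback_bcMap p ρ).flip
    exact dominant_of_isΓ _)
  obtain ⟨sfl, ssur⟩ := ff_bc ρ q p' (dominant_special ρ _ IsLocalRing.residue_surjective)
  haveI : Flat (ρ.left ≫ H.hom) := by rw [Over.w]; infer_instance
  constructor
  · refine flat_of_fibres ρ.left H.hom (fun x hx => ?_) ?_
    · rw [Over.w] at hx
      obtain ⟨w, hw, -⟩ := Scheme.Pullback.exists_preimage_pullback x (IsLocalRing.closedPoint _)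
        (f := G.hom) (g := p) (hx.trans (gp_closedPoint D _).symm)
      haveI := gfl
      have h1 : FlatLib.FlatAt (pullback.fst G.hom p ≫ ρ.left) w := by
        rw [FlatLib.flatAt_congr (isPullback_bcMap p ρ).w.symm]
        exact FlatLib.flatAt_of_flat _ _
      have h2 := FlatLib.flatAt_of_comp (FlatLib.flatAt_of_flat (pullback.fst G.hom p) w) h1
      rwa [hw] at h2
    · have sq := (isPullback_bcMap p' ρ).flip
      rw [← sq.isoPullback_inv_snd]
      exact MorphismProperty.comp_mem _ _ _ (inferInstanceAs (Flat sq.isoPullback.inv)) sfl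
  · refine ⟨fun y => ?_⟩
    have key : ∀ {F : Type u} [Field F] (p : Spec (CommRingCat.of F) ⟶ Spec (CommRingCat.of D)),
        Surjective ((Over.pullback p).map ρ).left → H.hom y ∈ Set.range p → ∃ x, ρ.left x = y := by
      intro F _ p hs ⟨c, hc⟩
      obtain ⟨w, hw, -⟩ := Scheme.Pullback.exists_preimage_pullback y c (f := H.hom) (g := p) hc.symm
      obtain ⟨v, rfl⟩ := hs.surj w
      refine ⟨pullback.fst G.hom p v, ?_⟩
      rw [← hw, ← Scheme.Hom.comp_apply]
      exact congr($((isPullback_bcMap p ρ).w.symm) v)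
    rcases eq_bot_or_closed (H.hom y) with h | h
    · exact key _ gsur ⟨IsLocalRing.closedPoint _, (gp_closedPoint D _).trans h.symm⟩
    · exact key _ ssur ⟨IsLocalRing.closedPoint _, (sp_closedPoint _ IsLocalRing.residue_surjective).trans h.symm⟩

end dvr

theorem flat_hull_dedekind (R : Type u) [CommRing R] [IsDedekindDomain R] {G H : Scheme.{u}} (ρ : G ⟶ H) [IsΓ ρ]
    (g : H ⟶ Spec (CommRingCat.of R)) [Flat (ρ ≫ g)] : Flat g := by
  rw [IsZariskiLocalAtSource.iff_of_iSup_eq_top (P := @Flat) _ (iSup_affineOpens_eq_top H)]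
  intro W
  haveI : IsAffine W.1.toScheme := W.2
  rw [HasRingHomProperty.iff_of_isAffine (P := @Flat)]
  let f := (ρ ∣_ W.1) ≫ W.1.ι ≫ g
  haveI : Flat f := by simp only [f, morphismRestrict_ι_assoc]; infer_instance
  have hflat : f.appTop.hom.Flat := by
    let ι₀ := (Scheme.ΓSpecIso (CommRingCat.of R)).inv
    suffices H' : (ι₀ ≫ f.appTop).hom.Flat by
      rw [CommRingCat.hom_comp] at H'
      exact (RingHom.Flat.respectsIso.cancel_left_isIso ι₀ f.appTop).1 H'
    algebraize [(ι₀ ≫ f.appTop).hom]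
    change Module.Flat R Γ((ρ ⁻¹ᵁ W.1).toScheme, ⊤)
    rw [IsDedekindDomain.flat_iff_torsion_eq_bot, Submodule.eq_bot_iff]
    rintro x ⟨⟨r, hr⟩, hx⟩
    have hr0 : r ≠ 0 := nonZeroDivisors.ne_zero hr
    change (ι₀ ≫ f.appTop).hom r * x = 0 at hx
    apply SubSpecLib.Hull.mul_left_injective_of_flat f hr0 ⊤
    simp [ι₀] at hx ⊢
    exact hx
  haveI : IsIso (ρ ∣_ W.1).appTop := IsΓ.iso _
  rw [show (W.1.ι ≫ g).appTop = f.appTop ≫ inv (ρ ∣_ W.1).appTop by
    rw [IsIso.eq_comp_inv, ← Scheme.Hom.comp_appTop]]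
  exact (RingHom.Flat.respectsIso.cancel_right_isIso _ _).2 hflat

/-- The relative hull map over a Dedekind domain is faithfully flat. -/
theorem ff_rel_dedekind (R : Type u) [CommRing R] [IsDedekindDomain R] {G H G₀ : Over (Spec (CommRingCat.of R))}
    [GrpObj G] [GrpObj H] [GrpObj G₀] [Flat G.hom] [Flat H.hom] [LocallyOfFiniteType G.hom] [QuasiCompact G.hom]
    [LocallyOfFiniteType G₀.hom] (ρ : G ⟶ H) [IsMonHom ρ] (q : H ⟶ G₀) [IsMonHom q] [IsAffineHom q.left]
    [QuasiCompact ρ.left] [QuasiSeparated ρ.left] [IsΓ ρ.left] : Flat ρ.left ∧ Surjective ρ.left := by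
  by_cases hR : IsField R
  · letI := hR.toField
    haveI := dominant_of_isΓ ρ.left
    exact ff_of_affine_over ρ q
  have sq : ∀ {D : Type u} [CommRing D] [IsDomain D] [IsDiscreteValuationRing D]
      (j : Spec (CommRingCat.of D) ⟶ Spec (CommRingCat.of R)) [Flat j],
      Flat ((Over.pullback j).map ρ).left ∧ Surjective ((Over.pullback j).map ρ).left := by
    intro D _ _ _ j _
    haveI : Flat (Red.bc j G).hom := MorphismProperty.pullback_snd _ _ ‹Flat G.hom›
    haveI : Flat (Red.bc j H).hom := MorphismProperty.pullback_snd _ _ ‹Flat H.hom›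
    haveI : QuasiCompact (Red.bc j G).hom := MorphismProperty.pullback_snd _ _ ‹QuasiCompact G.hom›
    haveI : LocallyOfFiniteType (Red.bc j G).hom := MorphismProperty.pullback_snd _ _ ‹LocallyOfFiniteType G.hom›
    haveI : LocallyOfFiniteType (Red.bc j G₀).hom := MorphismProperty.pullback_snd _ _ ‹LocallyOfFiniteType G₀.hom›
    haveI : QuasiCompact ((Over.pullback j).map ρ).left :=
      MorphismProperty.of_isPullback (isPullback_bcMap j ρ).flip ‹QuasiCompact ρ.left›
    haveI : QuasiSeparated ((Over.pullback j).map ρ).left :=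
      MorphismProperty.of_isPullback (isPullback_bcMap j ρ).flip ‹QuasiSeparated ρ.left›
    haveI : IsAffineHom ((Over.pullback j).map q).left :=
      MorphismProperty.of_isPullback (isPullback_bcMap j q).flip ‹IsAffineHom q.left›
    haveI : Flat (pullback.fst H.hom j) := MorphismProperty.pullback_fst _ _ ‹Flat j›
    haveI := isΓ_of_isPullback (isPullback_bcMap j ρ).flip
    exact ff_rel_dvr ((Over.pullback j).map ρ) ((Over.pullback j).map q)
  constructor
  · rw [Flat.iff_flat_stalkMap]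
    intro y
    obtain ⟨D, _, _, _, j, hj, c, hc⟩ := exists_dvr hR (G.hom y)
    haveI := hj
    obtain ⟨w, hw, -⟩ := Scheme.Pullback.exists_preimage_pullback y c (f := G.hom) (g := j) hc.symm
    haveI := (sq j).1
    haveI : Flat (pullback.fst H.hom j) := MorphismProperty.pullback_fst _ _ hj
    have h1 : FlatLib.FlatAt (pullback.fst G.hom j ≫ ρ.left) w := by
      rw [FlatLib.flatAt_congr (isPullback_bcMap j ρ).w.symm]
      exact FlatLib.flatAt_of_flat _ _
    have h2 := FlatLib.flatAt_of_comp (FlatLib.flatAt_of_flat (pullback.fst G.hom j) w) h1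
    rw [hw] at h2
    exact h2
  · refine ⟨fun z => ?_⟩
    obtain ⟨D, _, _, _, j, hj, c, hc⟩ := exists_dvr hR (H.hom z)
    haveI := hj
    obtain ⟨z', hz', -⟩ := Scheme.Pullback.exists_preimage_pullback z c (f := H.hom) (g := j) hc.symm
    obtain ⟨v, hv⟩ := (sq j).2.surj z'
    refine ⟨pullback.fst G.hom j v, ?_⟩
    rw [← hz', ← hv, ← Scheme.Hom.comp_apply]
    exact congr($((isPullback_bcMap j ρ).w.symm) v)

end DedHullLib
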