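import Groth.Agent.DedHullLib.Global
import Groth.Agent.GrpHomLib.FlatImage
import Groth.Agent.AntiAffLib.KerSub
import Groth.Agent.DiagRepLib.Scheme
import Groth.Agent.RelHullLib.Group

/-! Schematically dominant homomorphisms to groups affine over an algebraic group. -/

set_option autoImplicit false
set_option linter.style.haveILetI false
set_option linter.unusedSectionVars false
set_option backward.isDefEq.respectTransparency false
set_option maxHeartbeats 1000000

universe u

open CategoryTheory CategoryTheory.Limits MonoidalCategory CartesianMonoidalCategory AlgebraicGeometry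
open scoped MonObj
open Groth.Agent.HomogDense Groth.Agent.GrpField

noncomputable section

attribute [-instance] CategoryTheory.Hom.commGroup

namespace DedHullLib

/-- The shear attached to the kernel of `b` and a section-like homomorphism over `b`. -/
theorem isPullback_shear_over {S : Scheme.{u}} {G H I M : Over S} [GrpObj G] [GrpObj H] [GrpObj I] (a : G ⟶ I)
    (b : H ⟶ I) [IsMonHom b] (r : G ⟶ H) (hr : r ≫ b = a) (j : M ⟶ H) (hM : AlgGrp.IsKernel j b) :
    IsPullback (fst G M) ((fst G M ≫ r) * (snd G M ≫ j)) a b := by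
  have hj : j ≫ b = (1 : M ⟶ I) := by rw [hM.w, Hom.one_def]
  refine ⟨⟨?_⟩, ⟨PullbackCone.IsLimit.mk _
    (fun s => lift s.fst (hM.lift ((s.fst ≫ r)⁻¹ * s.snd) (toUnit _) ?_)) (fun s => by simp) (fun s => ?_)
    (fun s m h1 h2 => ?_)⟩⟩
  · rw [Groth.Agent.GrpKerShear.hom_mul, Category.assoc, Category.assoc, hr, hj, MonObj.comp_one, _root_.mul_one]
  · rw [Groth.Agent.GrpKerShear.hom_mul, Groth.Agent.GrpKerShear.hom_inv, Category.assoc, hr, s.condition,
      inv_mul_cancel, Hom.one_def]
  · show lift _ _ ≫ _ = _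
    rw [MonObj.comp_mul, lift_fst_assoc, lift_snd_assoc, hM.lift_fst, mul_inv_cancel_left]
  · refine CartesianMonoidalCategory.hom_ext _ _ (by simpa using h1) ?_
    rw [lift_snd]
    refine hM.hom_ext ?_ (toUnit_unique _ _)
    rw [hM.lift_fst]
    rw [MonObj.comp_mul, reassoc_of% h1] at h2
    rw [← h2, inv_mul_cancel_left, Category.assoc]

variable {k : Type u} [Field k]

/-- A schematically dominant homomorphism to a group affine over an algebraic group is faithfully flat. -/
theorem ff_of_affine_over {G H G₀ : Over (Spec (CommRingCat.of k))} [GrpObj G] [GrpObj H] [GrpObj G₀]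
    [LocallyOfFiniteType G.hom] [QuasiCompact G.hom] [LocallyOfFiniteType G₀.hom] (ρ : G ⟶ H) [IsMonHom ρ]
    (q : H ⟶ G₀) [IsMonHom q] [IsAffineHom q.left] [QuasiCompact ρ.left] [IsSchemeTheoreticallyDominant ρ.left] :
    Flat ρ.left ∧ Surjective ρ.left := by
  haveI : IsSeparated G₀.hom := isSeparated_grp (G := G₀)
  haveI : IsMonHom (ρ ≫ q) := inferInstance
  haveI : QuasiCompact (ρ ≫ q).left := by
    rw [Over.comp_left]; infer_instance
  obtain ⟨C, _, p, i, hp, hi, hpi, hpf, hps, _, _⟩ := Groth.Agent.GrpHom.exists_fppf_image (ρ ≫ q) (flat_field _)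
  haveI := hp; haveI := hi; haveI := hpf; haveI := hps
  haveI : Mono i := Over.mono_of_mono_left i
  haveI : LocallyOfFiniteType C.hom := by rw [← Over.w i]; infer_instance
  haveI : IsSeparated C.hom := isSeparated_grp (G := C)
  let l := pullback.lift (f := q.left) (g := i.left) ρ.left p.left (congrArg CommaMorphism.left hpi).symm
  haveI : IsClosedImmersion (pullback.fst q.left i.left) := MorphismProperty.pullback_fst _ _ ‹_›
  haveI : IsIso (pullback.fst q.left i.left) := by
    refine IsClosedImmersion.isIso_of_ker_eq _ (𝟙 _) _ (Category.comp_id _) ?_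
    rw [Scheme.Hom.ker_eq_bot (𝟙 H.left)]
    refine eq_bot_iff.2 ?_
    rw [← Scheme.Hom.ker_eq_bot ρ.left]
    have h := Scheme.Hom.le_ker_comp l (pullback.fst q.left i.left)
    rwa [show l ≫ pullback.fst q.left i.left = ρ.left from pullback.lift_fst _ _ _] at h
  let q'l := inv (pullback.fst q.left i.left) ≫ pullback.snd q.left i.left
  have hq'l : q'l ≫ i.left = q.left := by
    simp only [q'l, Category.assoc, ← pullback.condition, IsIso.inv_hom_id_assoc]
  let q' : H ⟶ C := Over.homMk q'l (by rw [← Over.w i, reassoc_of% hq'l, Over.w])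
  have hq' : q' ≫ i = q := Over.OverMorphism.ext hq'l
  haveI : IsMonHom q' := by
    haveI : IsMonHom (q' ≫ i) := by rw [hq']; infer_instance
    exact Groth.Agent.DiagRep.isMonHom_of_comp_mono q' i
  have hρq' : ρ ≫ q' = p := by rw [← cancel_mono i, Category.assoc, hq', hpi]
  haveI : IsAffineHom q'.left := by
    haveI : IsAffineHom (q'.left ≫ i.left) := by rw [← Over.comp_left, hq']; infer_instance
    exact IsAffineHom.of_comp q'.left i.left
  haveI : QuasiCompact p.left := by
    rw [← hρq', Over.comp_left]; infer_instance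
  obtain ⟨N, _, jN, _, _, hN, -⟩ := AntiAffLib.exists_kernel p
  obtain ⟨M, _, jM, _, hjM, hM, -⟩ := AntiAffLib.exists_kernel q'
  haveI : IsAffine M.left := by
    have sq := hM.map (Over.forget _)
    haveI : IsAffine (𝟙_ (Over (Spec (CommRingCat.of k)))).left := inferInstanceAs (IsAffine (Spec _))
    haveI : IsAffineHom (toUnit M).left := MorphismProperty.of_isPullback sq ‹IsAffineHom q'.left›
    exact isAffine_of_isAffineHom (toUnit M).left
  let ρN : N ⟶ M := hM.lift (jN ≫ ρ) (toUnit _) (by rw [Category.assoc, hρq', hN.w])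
  have hρN : ρN ≫ jM = jN ≫ ρ := hM.lift_fst _ _ _
  haveI : Mono jM := Over.mono_of_mono_left jM
  haveI : IsMonHom ρN := by
    haveI : IsMonHom (ρN ≫ jM) := by rw [hρN]; infer_instance
    exact Groth.Agent.DiagRep.isMonHom_of_comp_mono ρN jM
  let gN := (fst G N ≫ 𝟙 G) * (snd G N ≫ jN)
  let gM := (fst G M ≫ ρ) * (snd G M ≫ jM)
  have sN : IsPullback (fst G N) gN p p := isPullback_shear_over p p (𝟙 G) (Category.id_comp p) jN hN
  have sM : IsPullback (fst G M) gM p q' := isPullback_shear_over p q' ρ hρq' jM hM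
  have hcomm : gN ≫ ρ = (G ◁ ρN) ≫ gM := by
    simp only [gN, gM, Groth.Agent.GrpKerShear.hom_mul, MonObj.comp_mul, Category.assoc, Category.id_comp,
      whiskerLeft_fst_assoc, whiskerLeft_snd_assoc, hρN]
  have top : IsPullback gN (G ◁ ρN) ρ gM := by
    refine IsPullback.of_bot ?_ hcomm sM.flip
    rw [hρq', whiskerLeft_fst]
    exact sN.flip
  have hgN : Flat gN.left ∧ Surjective gN.left :=
    ⟨MorphismProperty.of_isPullback (sN.map (Over.forget _)) hpf,
      MorphismProperty.of_isPullback (sN.map (Over.forget _)) hps⟩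
  have hgM : Flat gM.left ∧ Surjective gM.left :=
    ⟨MorphismProperty.of_isPullback (sM.map (Over.forget _)) hpf,
      MorphismProperty.of_isPullback (sM.map (Over.forget _)) hps⟩
  haveI := hgN.1; haveI := hgN.2; haveI := hgM.1; haveI := hgM.2
  let w := (G ◁ ρN).left
  haveI : QuasiCompact w := MorphismProperty.of_isPullback (top.map (Over.forget _)) ‹QuasiCompact ρ.left›
  haveI : IsSchemeTheoreticallyDominant w :=
    IsSchemeTheoreticallyDominant.of_isPullback (f := ρ.left) (g := gM.left) (top.map (Over.forget _))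
  haveI : CompactSpace N.left := by
    haveI : QuasiCompact N.hom := by rw [← Over.w jN]; infer_instance
    exact QuasiCompact.compactSpace_of_compactSpace N.hom
  haveI : QuasiCompact ρN.left := quasiCompact_of_compactSpace _
  haveI : IsSchemeTheoreticallyDominant ρN.left := by
    refine ⟨eq_bot_iff.2 ?_⟩
    let π := (snd G M).left
    haveI : Flat G.hom := flat_field _
    haveI : Nonempty G.left := ⟨(η[G]).left (IsLocalRing.closedPoint k)⟩
    haveI : Surjective G.hom := ⟨fun x => ⟨Classical.arbitrary _, Subsingleton.elim (α := PrimeSpectrum k) _ _⟩⟩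
    haveI : Flat π := MorphismProperty.pullback_snd (P := @Flat) G.hom M.hom ‹_›
    haveI : Surjective π := MorphismProperty.pullback_snd (P := @Surjective) G.hom M.hom ‹_›
    haveI : QuasiCompact π := MorphismProperty.pullback_snd (P := @QuasiCompact) G.hom M.hom ‹_›
    haveI : IsSchemeTheoreticallyDominant π := ⟨Groth.Agent.MultLift.ker_eq_bot_of_flat_surjective π⟩
    have e : w ≫ π = (snd G N).left ≫ ρN.left := by
      rw [← Over.comp_left, ← Over.comp_left, whiskerLeft_snd]
    have h := Scheme.Hom.le_ker_comp (snd G N).left ρN.left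
    rwa [← e, Scheme.Hom.ker_eq_bot (w ≫ π)] at h
  obtain ⟨h1, h2⟩ := flat_surjective_of_dominant ρN
  haveI : Flat w := MorphismProperty.of_isPullback ((RelHullLib.isPullback_whiskerLeft G ρN).map (Over.forget _)) h1
  haveI : Surjective w := MorphismProperty.of_isPullback ((RelHullLib.isPullback_whiskerLeft G ρN).map (Over.forget _)) h2
  have e : gN.left ≫ ρ.left = w ≫ gM.left := congrArg CommaMorphism.left hcomm
  haveI : Surjective (gN.left ≫ ρ.left) := by rw [e]; infer_instance
  refine ⟨?_, Surjective.of_comp gN.left ρ.left⟩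
  rw [Flat.iff_flat_stalkMap]
  intro x
  obtain ⟨y, rfl⟩ := gN.left.surjective x
  refine FlatLib.flatAt_of_comp (FlatLib.flatAt_of_flat gN.left y) ?_
  rw [FlatLib.flatAt_congr e]
  exact FlatLib.flatAt_of_flat _ _

end DedHullLib
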